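import Cfsg.Agent.OPlusPres.St.Mon

/-!
The unipotent radical.
-/

set_option autoImplicit false
set_option linter.unusedSectionVars false
set_option linter.unusedSimpArgs false
set_option maxHeartbeats 800000

open Matrix
open scoped commutatorElement MatrixGroups Pointwise

namespace Cfsg.Agent.OPlusPres

open Chev.Ortho CurtisTitsD
open SLMult (tx)
open DMult (IsSec IsMonO levF lev_levF levF_bar levF_eq levF_ne exists_sec wS hS hS_coe wPerm wPerm_apply
  wPerm_sq wPerm_left wPerm_left_bar wPerm_fix wPerm_bar wPerm_hgt emb_single isSec_bar isMonO_one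
  wS_mul_inv wS_pair hS_mul Tor dg crt dg_crt isSec_inl dgc Nd)

universe u

variable {F : Type u} [Field F] [Fintype F] {n : ℕ} {Γ : Type u} [Group Γ]

local notation "I" => Fin n ⊕ Fin n

variable (S : Rels F n Γ)

/-- The root subgroup of a pair. -/
noncomputable def XR (a b : Fin n ⊕ Fin n) : Subgroup Γ := Subgroup.closure (Set.range (S.X a b))

theorem X_mem_XR (a b : I) (t : F) : S.X a b t ∈ XR S a b := Subgroup.subset_closure ⟨t, rfl⟩

theorem mem_XR {a b : I} (h : lev a ≠ lev b) {x : Γ} : x ∈ XR S a b ↔ ∃ t, S.X a b t = x := by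
  refine ⟨fun hx => ?_, fun ⟨t, e⟩ => e ▸ X_mem_XR S a b t⟩
  refine Subgroup.closure_induction (fun _ hy => hy) ⟨0, X_zero S h⟩ ?_ ?_ hx
  · rintro _ _ _ _ ⟨t, rfl⟩ ⟨u, rfl⟩; exact ⟨t + u, S.add h t u⟩
  · rintro _ _ ⟨t, rfl⟩; exact ⟨-t, (X_inv S h t).symm⟩

theorem XR_swap {a b : I} (h : lev a ≠ lev b) : XR S b a = XR S a b := by
  ext x
  rw [mem_XR S h.symm, mem_XR S h]
  exact ⟨fun ⟨t, e⟩ => ⟨-t, (S.swap h t).symm.trans e⟩,
    fun ⟨t, e⟩ => ⟨-t, by rw [S.swap h, neg_neg, e]⟩⟩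

/-- The group generated by the lifts of the roots `inl k' + y` with `k ≤ k' < lev y`. -/
noncomputable def UL (k : ℕ) : Subgroup Γ :=
  Subgroup.closure {x | ∃ (i : Fin n) (y : Fin n ⊕ Fin n) (t : F),
    k ≤ (i : ℕ) ∧ (i : ℕ) < lev y ∧ S.X (Sum.inl i) y t = x}

theorem X_mem_UL {k : ℕ} {i : Fin n} {y : I} (h1 : k ≤ (i : ℕ)) (h2 : (i : ℕ) < lev y) (t : F) :
    S.X (Sum.inl i) y t ∈ UL S k :=
  Subgroup.subset_closure ⟨i, y, t, h1, h2, rfl⟩

theorem lev_lt_ne {k : Fin n} {y : I} (h : (k : ℕ) < lev y) : lev (Sum.inl k : I) ≠ lev y :=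
  ne_of_lt h

/-- The row of roots `inl k + y`. -/
noncomputable def Row (k : Fin n) : Subgroup Γ :=
  Subgroup.closure {x | ∃ (y : Fin n ⊕ Fin n) (t : F), (k : ℕ) < lev y ∧ S.X (Sum.inl k) y t = x}

theorem row_comm {k : Fin n} {y z : I} (hy : (k : ℕ) < lev y) (hz : (k : ℕ) < lev z) (t u : F) :
    Commute (S.X (Sum.inl k) y t) (S.X (Sum.inl k) z u) := by
  have hky : lev (Sum.inl k : I) ≠ lev y := ne_of_lt hy
  by_cases e : bar y = z
  · subst e; exact S.opp hky t u
  refine S.comm hky (lev_lt_ne hz) ?_ e (bar_ne _) ?_ t u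
  · intro e'; have := congrArg lev e'; rw [lev_bar] at this; exact hky this.symm
  · intro e'; rw [← e', lev_bar] at hz; exact lt_irrefl _ hz

theorem row_conj {k i : Fin n} {y z : I} (hki : k < i) (hy : (i : ℕ) < lev y) (hz : (k : ℕ) < lev z)
    (t u : F) : ⁅S.X (Sum.inl k) z t, S.X (Sum.inl i) y u⁆ ∈ Row S k := by
  have hki' : (k : ℕ) < i := hki
  have hiy : lev (Sum.inl i : I) ≠ lev y := ne_of_lt hy
  have hkl : lev (Sum.inl k : I) ≠ lev (Sum.inl i : I) := ne_of_lt hki'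
  have hky : lev (Sum.inl k : I) ≠ lev y := ne_of_lt (hki'.trans hy)
  by_cases e1 : z = bar (Sum.inl i : I)
  · subst e1
    rw [S.rel hky hkl hiy]
    exact Subgroup.subset_closure ⟨y, _, hki'.trans hy, rfl⟩
  by_cases e2 : z = bar y
  · subst e2
    rw [S.swap hiy.symm u, S.rel hkl hky hiy.symm]
    exact Subgroup.subset_closure ⟨Sum.inl i, _, hki', rfl⟩
  rw [commutatorElement_eq_one_iff_commute.2 (S.comm (lev_lt_ne hz) hiy ?_ ?_ ?_ ?_ t u)]
  · exact one_mem _
  · exact fun e => e1 (by rw [← e, bar_bar])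
  · exact fun e => e2 (by rw [← e, bar_bar])
  · intro e; exact hkl (by rw [← lev_bar (Sum.inl k : I), e])
  · intro e; exact hky (by rw [← lev_bar (Sum.inl k : I), e])

theorem UL_split {k : Fin n} {g : Γ} (hg : g ∈ UL S (k : ℕ)) :
    ∃ r ∈ Row S k, ∃ v ∈ UL S ((k : ℕ) + 1), g = r * v := by
  have hnorm : UL S ((k : ℕ) + 1) ≤ Subgroup.normalizer (Row S k : Set Γ) := by
    rw [UL, Subgroup.closure_le]
    rintro _ ⟨i, y, u, hi, hy, rfl⟩
    have key : ∀ u r, r ∈ Row S k →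
        S.X (Sum.inl i) y u * r * (S.X (Sum.inl i) y u)⁻¹ ∈ Row S k := by
      intro u r hr
      have hle : (Row S k).map (MulAut.conj (S.X (Sum.inl i) y u)).toMonoidHom ≤ Row S k := by
        rw [Row, MonoidHom.map_closure, Subgroup.closure_le]
        rintro _ ⟨_, ⟨z, t, hz, rfl⟩, rfl⟩
        have e : ∀ a b : Γ, b * a * b⁻¹ = ⁅a, b⁆⁻¹ * a := fun a b => by
          rw [commutatorElement_def]; group
        simp only [MulEquiv.coe_toMonoidHom, MulAut.conj_apply]
        rw [e]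
        exact mul_mem (inv_mem (row_conj S (by rw [Fin.lt_def]; omega) hy hz t u))
          (Subgroup.subset_closure ⟨z, t, hz, rfl⟩)
      exact hle ⟨r, hr, rfl⟩
    refine Subgroup.mem_normalizer_iff.2 fun r => ⟨key u r, fun h => ?_⟩
    have h' := key (-u) _ h
    rw [← X_inv S (lev_lt_ne hy)] at h'
    simpa [mul_assoc] using h'
  have hle : UL S (k : ℕ) ≤ Row S k ⊔ UL S ((k : ℕ) + 1) := by
    conv_lhs => rw [UL]
    rw [Subgroup.closure_le]
    rintro _ ⟨i, y, t, hi, hy, rfl⟩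
    by_cases h : i = k
    · subst h; exact Subgroup.mem_sup_left (Subgroup.subset_closure ⟨y, t, hy, rfl⟩)
    · exact Subgroup.mem_sup_right (X_mem_UL S (by have := fun e => h (Fin.ext e); omega) hy t)
  have h2 : g ∈ ((Row S k : Set Γ) * (UL S ((k : ℕ) + 1) : Set Γ)) := by
    rw [← Subgroup.coe_mul_of_right_le_normalizer_left _ _ hnorm]; exact hle hg
  obtain ⟨r, hr, v, hv, e⟩ := h2
  exact ⟨r, hr, v, hv, e.symm⟩

/-- The coordinates of a row element. -/
def RowAct (k : Fin n) (g : OG F n) (φ : I → F) : Prop :=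
  ∀ v : I → F, act g v (Sum.inr k) = v (Sum.inr k) ∧
    ∀ y, (k : ℕ) < lev y → act g v y = v y - φ y * v (Sum.inr k)

open scoped _root_.Classical in
theorem row_inj {k : Fin n} {r : Γ} (hr : r ∈ Row S k)
    (h1 : ∀ y, (k : ℕ) < lev y → act (S.σ r) (Pi.single (Sum.inr k) 1) y = 0) : r = 1 := by
  let Y := {y : I // (k : ℕ) < lev y}
  let χ : ∀ _ : Y, Multiplicative F →* Γ := fun y =>
    MonoidHom.mk' (fun t => S.X (Sum.inl k) y.1 t.toAdd) fun a b =>
      S.add (lev_lt_ne y.2) a.toAdd b.toAdd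
  have hpair : Pairwise fun i j => ∀ x y, Commute (χ i x) (χ j y) :=
    fun i j _ x y => row_comm S i.2 j.2 _ _
  let Φ := MonoidHom.noncommPiCoprod χ hpair
  let ext' : (Y → Multiplicative F) → I → F := fun φ y => if h : (k : ℕ) < lev y then (φ ⟨y, h⟩).toAdd else 0
  have hP : ∀ φ, RowAct k (S.σ (Φ φ)) (ext' φ) := by
    intro φ
    rw [← Finset.univ_prod_mulSingle φ]
    refine Finset.prod_induction _ (fun φ => RowAct k (S.σ (Φ φ)) (ext' φ)) ?_ ?_ ?_
    · intro a b ha hb v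
      rw [map_mul, map_mul]
      refine ⟨by rw [act_mul, (ha _).1, (hb v).1], fun y hy => ?_⟩
      rw [act_mul, (ha _).2 y hy, (hb v).1, (hb v).2 y hy]
      simp only [ext', dif_pos hy, Pi.mul_apply, toAdd_mul]; ring
    · intro v
      rw [map_one, map_one, act_one]
      exact ⟨rfl, fun y hy => by simp [ext']⟩
    · intro i _ v
      rw [MonoidHom.noncommPiCoprod_mulSingle]
      rw [show χ i (φ i) = S.X (Sum.inl k) i.1 (φ i).toAdd from rfl, σ_X S (ok_of_lev (lev_lt_ne i.2))]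
      refine ⟨?_, fun y hy => ?_⟩
      · rw [el_apply, if_neg (by simp), if_neg]
        · simp
        · intro e; have := i.2; rw [← e] at this; exact lt_irrefl _ this
      · rw [el_apply, if_neg (fun e => by rw [e] at hy; exact lt_irrefl _ hy)]
        simp only [ext', dif_pos hy, Pi.mulSingle_apply]
        by_cases e : y = i.1
        · subst e; rw [if_pos rfl, if_pos rfl]; simp [bar]
        · rw [if_neg e, if_neg (fun e' => e (congrArg Subtype.val e'))]; simp
  have hΦ : Row S k ≤ Φ.range := by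
    rw [Row, Subgroup.closure_le]
    rintro _ ⟨y, t, hy, rfl⟩
    exact ⟨Pi.mulSingle ⟨y, hy⟩ (Multiplicative.ofAdd t), MonoidHom.noncommPiCoprod_mulSingle ..⟩
  obtain ⟨φ, rfl⟩ := hΦ hr
  have h0 : φ = 1 := funext fun y => by
    have hne : y.1 ≠ Sum.inr k := fun e => by have := y.2; rw [e] at this; exact lt_irrefl _ this
    have := (hP φ (Pi.single (Sum.inr k) 1)).2 y.1 y.2
    rw [h1 y.1 y.2, Pi.single_eq_of_ne hne, Pi.single_eq_same, mul_one, zero_sub, eq_comm, neg_eq_zero] at this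
    simpa [ext', y.2] using this
  rw [h0, map_one]

theorem UL_fix {k : ℕ} {g : Γ} (hg : g ∈ UL S k) {x : I} (hx : lev x < k) :
    act (S.σ g) (Pi.single x 1) = Pi.single x 1 := by
  refine Subgroup.closure_induction ?_ ?_ ?_ ?_ hg
  · rintro _ ⟨i, y, t, hi, hy, rfl⟩
    rw [σ_X S (ok_of_lev (ne_of_lt hy : lev (Sum.inl i : I) ≠ lev y))]
    funext r
    have h1 : bar y ≠ x := fun e => by rw [← e, lev_bar] at hx; omega
    have h2 : bar (Sum.inl i : I) ≠ x := fun e => by
      rw [← e, lev_bar] at hx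
      exact absurd (lt_of_lt_of_le hx hi) (lt_irrefl _)
    rw [el_apply, Pi.single_eq_of_ne h1, Pi.single_eq_of_ne h2]
    simp
  · rw [map_one, act_one]
  · intro a b _ _ ha hb; rw [map_mul, act_mul, hb, ha]
  · intro a _ ha
    conv_lhs => rw [← ha, ← act_mul, ← map_mul, inv_mul_cancel, map_one, act_one]

/-- The projection is injective on the unipotent group. -/
theorem UL_inj {k : ℕ} {g : Γ} (hg : g ∈ UL S k) (h1 : S.σ g = 1) : g = 1 := by
  obtain ⟨d, hd⟩ : ∃ d, n ≤ k + d := ⟨n, by omega⟩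
  induction d generalizing k g with
  | zero =>
    have : UL S k = ⊥ := by
      rw [UL, Subgroup.closure_eq_bot_iff]
      rintro _ ⟨i, y, t, hi, hy, rfl⟩
      exact absurd i.2 (by omega)
    rwa [this, Subgroup.mem_bot] at hg
  | succ d ih =>
    by_cases hk : n ≤ k + d
    · exact ih hg h1 hk
    obtain ⟨r, hr, v, hv, rfl⟩ := UL_split S (k := ⟨k, by omega⟩) hg
    have hr1 : r = 1 := by
      refine row_inj S hr fun y hy => ?_
      have e := UL_fix S hv (x := Sum.inr ⟨k, by omega⟩) (Nat.lt_succ_self k)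
      have : act (S.σ (r * v)) (Pi.single (Sum.inr ⟨k, by omega⟩) 1) y = 0 := by
        rw [h1, act_one, Pi.single_eq_of_ne (fun e => by rw [e] at hy; exact lt_irrefl _ hy)]
      rwa [map_mul, act_mul, e] at this
    subst hr1
    have hv' : v ∈ UL S (k + 1) := hv
    rw [one_mul] at h1 ⊢
    exact ih hv' h1 (by omega)

theorem pos_mem_UL {a b : I} (h : lev a ≠ lev b) (hp : 0 < hgt a + hgt b) : XR S a b ≤ UL S 0 := by
  have key : ∀ (i : Fin n) (y : I), (i : ℕ) < lev y → XR S (Sum.inl i) y ≤ UL S 0 := fun i y hy => by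
    rw [XR, Subgroup.closure_le]
    rintro _ ⟨t, rfl⟩
    exact X_mem_UL S (Nat.zero_le _) hy t
  rcases pos_cases (ok_of_lev h) hp with (⟨i, j, hij, rfl, rfl⟩ | ⟨i, j, hij, rfl, rfl⟩) |
    ⟨i, j, hij, rfl, rfl⟩
  · rcases lt_or_gt_of_ne hij with h' | h'
    · exact key i _ h'
    · rw [← XR_swap S h]; exact key j _ h'
  · exact key i _ hij
  · rw [← XR_swap S h]; exact key i _ hij

end Cfsg.Agent.OPlusPres
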