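import Cfsg.Agent.OPlusPres.St.Weyl
import Cfsg.Agent.OPlusPres.St.Unip

/-!
The kernel of the projection.
-/

set_option autoImplicit false
set_option linter.unusedSectionVars false
set_option linter.unusedSimpArgs false
set_option maxHeartbeats 800000

open Matrix
open scoped commutatorElement MatrixGroups Pointwise

namespace Cfsg.Agent.OPlusPres

open Chev.Ortho CurtisTitsD
open DMult (cover)
open SLMult (tx)
open DMult (IsSec IsMonO levF lev_levF levF_bar levF_eq levF_ne exists_sec wS hS hS_coe wPerm wPerm_apply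
  wPerm_sq wPerm_left wPerm_left_bar wPerm_fix wPerm_bar wPerm_hgt emb_single isSec_bar isMonO_one
  wS_mul_inv wS_pair hS_mul Tor dg crt dg_crt isSec_inl dgc Nd)

universe u

variable {F : Type u} [Field F] [Fintype F] {n : ℕ} {Γ : Type u} [Group Γ]

local notation "I" => Fin n ⊕ Fin n

variable (S : Rels F n Γ)

/-- The root subgroup of a root. -/
noncomputable def XX (r : Rt n) : Subgroup Γ := XR S r.1.1 r.1.2

/-- The simple roots. -/
def alpha : Nd n → Rt n
  | .inl k => ⟨(.inl k.1.1, .inr k.1.2), ok_of_lev fun e => by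
      have := k.2; simp only [lev, Sum.elim_inl, Sum.elim_inr] at e; omega⟩
  | .inr _ => ⟨(.inl (iP S), .inl (iQ S)), ok_of_lev (lev_pq S)⟩

theorem alpha_ht (i : Nd n) : rht (alpha S i) = 1 := by
  have := S.three
  rcases i with k | k
  · have := k.2; simp only [rht, alpha, hgt]; omega
  · simp only [rht, alpha, hgt, iP, iQ]; omega

theorem lev_ne_rt (r : Rt n) : lev r.1.1 ≠ lev r.1.2 := lev_ne_of_ok r.2

/-- The permutation of roots of a node. -/
def pi (i : Nd n) : Equiv.Perm (Rt n) :=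
  rperm (wPerm (alpha S i).1.1 (alpha S i).1.2) (wPerm_bar (lev_ne_rt (alpha S i)))

theorem mon_map {g : Γ} {τ : Equiv.Perm I} (hg : IsMon S g τ) {a b : I} (h : lev a ≠ lev b) :
    (XR S a b).map (MulAut.conj g).toMonoidHom = XR S (τ a) (τ b) := by
  obtain ⟨c, hc⟩ := hg
  have h' : lev (τ a) ≠ lev (τ b) := lev_ne_of_ok (hc.1.ok (ok_of_lev h))
  have hnz : c a * c b ≠ 0 := mul_ne_zero (hc.1.ne_zero a) (hc.1.ne_zero b)
  ext x
  simp only [Subgroup.mem_map, MulEquiv.coe_toMonoidHom, MulAut.conj_apply, mem_XR S h']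
  constructor
  · rintro ⟨y, hy, rfl⟩
    obtain ⟨t, rfl⟩ := (mem_XR S h).1 hy
    exact ⟨_, (X_mon S hc h t).symm⟩
  · rintro ⟨t, rfl⟩
    refine ⟨_, X_mem_XR S a b (t / (c a * c b)), ?_⟩
    rw [X_mon S hc h, mul_div_cancel₀ t hnz]

theorem XX_pi (i : Nd n) :
    XX S (pi S i (alpha S i)) = XX S (rneg (alpha S i)) ∧ XX S (pi S i (rneg (alpha S i))) = XX S (alpha S i) := by
  set r := alpha S i
  set a := r.1.1 with hadef
  set b := r.1.2 with hbdef
  have h : lev a ≠ lev b := lev_ne_rt r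
  have h' : lev (bar a) ≠ lev (bar b) := by rwa [lev_bar, lev_bar]
  have va : wPerm a b a = bar b := wPerm_left h
  have vb : wPerm a b b = bar a := by
    have g3 : b ≠ a := fun e => h (by rw [e])
    rw [wPerm_apply h, if_neg (bar_ne b).symm, if_neg g3,
      if_neg (fun e => h (by rw [e, lev_bar])), if_pos rfl]
  constructor <;> simp only [XX, pi, rperm_apply, rneg]
  · show XR S (wPerm a b a) (wPerm a b b) = XR S (bar a) (bar b)
    rw [va, vb, XR_swap S h']
  · show XR S (wPerm a b (bar a)) (wPerm a b (bar b)) = XR S a b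
    rw [wPerm_bar h, wPerm_bar h, va, vb, bar_bar, bar_bar, XR_swap S h]

theorem pi1 (i : Nd n) (r : Rt n) (hr : 0 < rht r) (hn : ¬ 0 < rht (pi S i r)) : XX S r = XX S (alpha S i) := by
  have h := lev_ne_rt (alpha S i)
  have h1 : hgt (alpha S i).1.1 + hgt (alpha S i).1.2 = 1 := alpha_ht S i
  have hb1 := wPerm_hgt h h1 r.1.1
  have hb2 := wPerm_hgt h h1 r.1.2
  have h3 := hgt_ne (pi S i r).2
  simp only [pi, rperm_apply, rht] at hr hn h3
  have hlt : hgt (wPerm (alpha S i).1.1 (alpha S i).1.2 r.1.1) +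
      hgt (wPerm (alpha S i).1.1 (alpha S i).1.2 r.1.2) < 0 := by omega
  have hp : r.1.1 = (alpha S i).1.1 ∨ r.1.1 = (alpha S i).1.2 := by
    by_contra hc; simp only [not_or] at hc
    have := hb1.2 hc.1 hc.2; omega
  have hq : r.1.2 = (alpha S i).1.1 ∨ r.1.2 = (alpha S i).1.2 := by
    by_contra hc; simp only [not_or] at hc
    have := hb2.2 hc.1 hc.2; omega
  have hne : r.1.1 ≠ r.1.2 := r.2.1
  simp only [XX]
  rcases hp with e1 | e1 <;> rcases hq with e2 | e2
  · exact absurd (e1.trans e2.symm) hne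
  · rw [e1, e2]
  · rw [e1, e2, XR_swap S h]
  · exact absurd (e1.trans e2.symm) hne

theorem pi2 (i : Nd n) (r : Rt n) (h : 2 ≤ rht r) : 0 < rht (pi S i r) := by
  have h1 : hgt (alpha S i).1.1 + hgt (alpha S i).1.2 = 1 := alpha_ht S i
  have hb1 := (wPerm_hgt (lev_ne_rt (alpha S i)) h1 r.1.1).1
  have hb2 := (wPerm_hgt (lev_ne_rt (alpha S i)) h1 r.1.2).1
  have h3 := hgt_ne (pi S i r).2
  simp only [pi, rperm_apply, rht] at h h3 ⊢
  omega

theorem X_mem_V {a b : I} (h : lev a ≠ lev b) {k : ℤ} (hk : k ≤ hgt a + hgt b) (t : F) :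
    S.X a b t ∈ V rht (XX S) k :=
  by
  have := le_V (ht := rht) (X := XX S) (r := (⟨(a, b), ok_of_lev h⟩ : Rt n)) (k := k) hk
  exact this (X_mem_XR S a b t)

theorem comm_rule {a b c d : I} (hab : lev a ≠ lev b) (hcd : lev c ≠ lev d) (h1 : 0 < hgt a + hgt b)
    (h2 : 0 < hgt c + hgt d) (t u : F) :
    ⁅S.X a b t, S.X c d u⁆ ∈ V rht (XX S) (hgt a + hgt b + (hgt c + hgt d)) := by
  have one : ∀ {p q r s : I} (_ : lev p ≠ lev q) (_ : lev r ≠ lev s), 0 < hgt p + hgt q → 0 < hgt r + hgt s →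
      bar q = r → ∀ t u, ⁅S.X p q t, S.X r s u⁆ ∈ V rht (XX S) (hgt p + hgt q + (hgt r + hgt s)) := by
    intro p q r s hpq hrs hp hr e t u
    subst e
    by_cases hps : lev p = lev s
    · rcases lev_eq hps with e | e
      · subst e
        rw [S.swap (a := p) (b := bar q) hrs.symm u,
          commutatorElement_eq_one_iff_commute.2 (S.opp hpq t (-u))]
        exact one_mem _
      · exfalso; subst e; rw [hgt_bar] at hp hr; omega
    rw [show q = bar (bar q) from (bar_bar q).symm] at hpq ⊢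
    rw [bar_bar (bar q), S.rel hps (by rwa [lev_bar] at hpq) hrs]
    refine X_mem_V S hps ?_ _
    rw [hgt_bar, hgt_bar]
    omega
  by_cases e1 : bar b = c
  · exact one hab hcd h1 h2 e1 t u
  by_cases e2 : bar b = d
  · rw [S.swap hcd.symm u, add_comm (hgt c)]
    exact one hab hcd.symm h1 (by omega) e2 t _
  by_cases e3 : bar a = c
  · rw [S.swap hab.symm t, add_comm (hgt a)]
    exact one hab.symm hcd (by omega) h2 e3 _ u
  by_cases e4 : bar a = d
  · rw [S.swap hab.symm t, S.swap hcd.symm u, add_comm (hgt a), add_comm (hgt c)]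
    exact one hab.symm hcd.symm (by omega) (by omega) e4 _ _
  rw [commutatorElement_eq_one_iff_commute.2 (S.comm hab hcd e1 e2 e3 e4 t u)]
  exact one_mem _

theorem neg_decomp {a b : I} (h : lev a ≠ lev b) {t : F} :
    S.X (bar a) (bar b) t = S.X a b (-t⁻¹) * w S a b t⁻¹ * S.X a b (-t⁻¹) := by
  rw [w, inv_inv, ← X_inv S h]
  group

/-- The group generated by the lifted root elements. -/
noncomputable def GX : Subgroup Γ :=
  Subgroup.closure {x | ∃ a b t, lev a ≠ lev b ∧ S.X a b t = x}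

theorem X_mem_GX {a b : I} (h : lev a ≠ lev b) (t : F) : S.X a b t ∈ GX S :=
  Subgroup.subset_closure ⟨a, b, t, h, rfl⟩

theorem gen_simple (G : Subgroup Γ) (hA : ∀ i, XX S (alpha S i) ≤ G)
    (hB : ∀ i, XX S (rneg (alpha S i)) ≤ G) : GX S ≤ G := by
  have hne := iP_ne S
  have sw : ∀ {a b : I}, lev a ≠ lev b → (∀ t, S.X a b t ∈ G) → ∀ t, S.X b a t ∈ G := fun h hG t => by
    rw [S.swap h]; exact hG _
  have hlin : ∀ i j : Fin n, i ≠ j → ∀ t, S.X (Sum.inl i) (Sum.inr j) t ∈ G := by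
    have hall := CurtisTitsA.gen_adjacent (G.comap (f S isSec_inl)) (M := n) le_rfl
      (fun k hk c => by
        rw [Subgroup.mem_comap, ← X_eq_f S isSec_inl (a := Sum.inl (⟨k, by omega⟩ : Fin n))
          (b := Sum.inr (⟨k + 1, hk⟩ : Fin n)) (fun e => by simp [Fin.ext_iff] at e) rfl rfl c]
        exact hA (Sum.inl ⟨(⟨k, by omega⟩, ⟨k + 1, hk⟩), rfl⟩) (X_mem_XR S _ _ c))
      (fun k hk c => by
        rw [Subgroup.mem_comap, ← X_eq_f S isSec_inl (a := Sum.inl (⟨k + 1, hk⟩ : Fin n))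
          (b := Sum.inr (⟨k, by omega⟩ : Fin n)) (fun e => by simp [Fin.ext_iff] at e) rfl rfl c]
        refine sw (a := Sum.inr (⟨k, by omega⟩ : Fin n)) (b := Sum.inl (⟨k + 1, hk⟩ : Fin n))
          (by simp [lev]) (fun t => ?_) c
        exact hB (Sum.inl ⟨(⟨k, by omega⟩, ⟨k + 1, hk⟩), rfl⟩) (X_mem_XR S _ _ t))
    intro i j hij t
    rw [X_eq_f S isSec_inl hij (a := Sum.inl i) (b := Sum.inr j) rfl rfl]
    exact hall i j hij i.2 j.2 t
  have side : ∀ s : Fin n → I, IsSec s → (∀ i j, i ≠ j → ∀ t, S.X (s i) (bar (s j)) t ∈ G) →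
      (∀ t, S.X (s (iP S)) (s (iQ S)) t ∈ G) → ∀ i j, i ≠ j → ∀ t, S.X (s i) (s j) t ∈ G := by
    intro s hs hl hpq
    have rel : ∀ i j c : Fin n, i ≠ j → i ≠ c → c ≠ j → (∀ t, S.X (s c) (s j) t ∈ G) →
        ∀ t, S.X (s i) (s j) t ∈ G := by
      intro i j c hij hic hcj hG t
      rw [← mul_one t, ← S.rel (hs.lev_ne hij) (hs.lev_ne hic) (hs.lev_ne hcj) t 1, commutatorElement_def]
      exact mul_mem (mul_mem (mul_mem (hl i c hic t) (hG 1)) (inv_mem (hl i c hic t))) (inv_mem (hG 1))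
    have hQ : ∀ i, i ≠ iQ S → ∀ t, S.X (s i) (s (iQ S)) t ∈ G := fun i hi => by
      by_cases h : i = iP S
      · subst h; exact hpq
      · exact rel i _ (iP S) hi h hne hpq
    intro i j hij
    by_cases h1 : j = iQ S
    · subst h1; exact hQ i hij
    by_cases h2 : i = iQ S
    · subst h2; exact sw (hs.lev_ne hij.symm) (hQ j hij.symm)
    exact rel i j (iQ S) hij h2 (Ne.symm h1) (sw (hs.lev_ne h1) (hQ j h1))
  rw [GX, Subgroup.closure_le]
  rintro _ ⟨a, b, t, hab, rfl⟩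
  have hi : ∀ {i j : Fin n}, lev (Sum.inl i : I) ≠ lev (Sum.inl j : I) → i ≠ j := fun h e => h (by rw [e])
  rcases a with i | i <;> rcases b with j | j
  · exact side (fun i => Sum.inl i) isSec_inl hlin (fun t => hA (Sum.inr ()) (X_mem_XR S _ _ t)) i j
      (hi hab) t
  · exact hlin i j (fun e => hab (by subst e; rfl)) t
  · exact sw (a := Sum.inl j) (b := Sum.inr i) hab.symm (hlin j i (fun e => hab (by subst e; rfl))) t
  · refine side (fun i => Sum.inr i) (fun _ => rfl) (fun i j hij t => ?_)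
      (fun t => hB (Sum.inr ()) (X_mem_XR S _ _ t)) i j (fun e => hab (by subst e; rfl)) t
    exact sw (a := Sum.inl j) (b := Sum.inr i) (fun e => hij (Fin.ext e).symm) (hlin j i hij.symm) t


/-- The kernel of the projection on the group of lifted root elements has at most two elements. -/
theorem GX_ker {g : Γ} (hg : g ∈ GX S) (h1 : S.σ g = 1) : g = 1 ∨ g = zz S := by
  let Wset : Nd n → Set Γ := fun i =>
    {x | ∃ t : F, t ≠ 0 ∧ w S (alpha S i).1.1 (alpha S i).1.2 t = x}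
  have hN : ∀ m ∈ Ngp S, ∃ τ : Equiv.Perm (Rt n), (∀ r, τ (rneg r) = rneg (τ r)) ∧
      ∀ r, (XX S r).map (MulAut.conj m).toMonoidHom = XX S (τ r) := by
    intro m hm
    obtain ⟨τ, hτ⟩ := Ngp_le S hm
    have hb : ∀ x, τ (bar x) = bar (τ x) := hτ.choose_spec.1.1
    refine ⟨rperm τ hb, fun r => Subtype.ext (Prod.ext (hb _) (hb _)), fun r => ?_⟩
    exact mon_map S hτ (lev_ne_rt r)
  obtain ⟨a, ha, m, hm, b, hb, rfl⟩ := cover (R := Rt n) rht (fun r => hgt_ne r.2) rneg
    (fun r => by simp only [rht, rneg, hgt_bar]; ring) (XX S) (alpha S) (alpha_ht S) (pi S)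
    (fun i => (XX_pi S i).1) (fun i => (XX_pi S i).2) Wset
    (fun i x hx r => by
      obtain ⟨t, ht, rfl⟩ := hx
      exact mon_map S (w_mon S (lev_ne_rt _) ht) (lev_ne_rt r))
    (pi2 S) (pi1 S)
    (fun i x hx => by
      have h := lev_ne_rt (alpha S i)
      have h' : lev (bar (alpha S i).1.1) ≠ lev (bar (alpha S i).1.2) := by rwa [lev_bar, lev_bar]
      obtain ⟨t, rfl⟩ := (mem_XR S h').1 hx
      by_cases ht : t = 0
      · exact Or.inl (by rw [ht, X_zero S h'])
      · exact Or.inr ⟨_, X_mem_XR S _ _ _, _, ⟨t⁻¹, inv_ne_zero ht, rfl⟩, _, X_mem_XR S _ _ _,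
          neg_decomp S h⟩)
    (fun r s hr hs x hx y hy => by
      obtain ⟨t, rfl⟩ := (mem_XR S (lev_ne_rt r)).1 hx
      obtain ⟨u, rfl⟩ := (mem_XR S (lev_ne_rt s)).1 hy
      exact comm_rule S (lev_ne_rt r) (lev_ne_rt s) hr hs t u)
    (Ngp S) (fun i x ⟨t, ht, e⟩ => e ▸ w_mem_Ngp S (lev_ne_rt _) ht) hN g
    (gen_simple S _ (fun i => (le_sup_left).trans (le_iSup (fun i => XX S (alpha S i) ⊔ XX S (rneg (alpha S i))) i))
      (fun i => (le_sup_right).trans (le_iSup (fun i => XX S (alpha S i) ⊔ XX S (rneg (alpha S i))) i)) hg)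
  have hVU : V rht (XX S) 1 ≤ UL S 0 := V_le fun r hr => pos_mem_UL S (lev_ne_rt r) (by
    simp only [rht] at hr; omega)
  have hUupper : UL S 0 ≤ (upper (F := F) n).comap S.σ := by
    rw [UL, Subgroup.closure_le]
    rintro _ ⟨i, y, t, -, hy, rfl⟩
    show S.σ _ ∈ upper (F := F) n
    have h : lev (Sum.inl i : I) ≠ lev y := lev_lt_ne hy
    rw [σ_X S (ok_of_lev h)]
    refine el_upper _ ?_ t
    rcases y with j | j <;> simp only [lev, Sum.elim_inl, Sum.elim_inr] at hy <;> simp only [hgt] <;>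
      have := j.2 <;> omega
  have ha' := hVU ha
  have hb' := hVU hb
  have hσm : S.σ m ∈ upper (F := F) n := by
    have e : S.σ m = (S.σ a)⁻¹ * (S.σ b)⁻¹ := by
      rw [eq_inv_mul_iff_mul_eq, ← mul_eq_one_iff_eq_inv, ← map_mul, ← map_mul]; exact h1
    rw [e]
    exact mul_mem (inv_mem (hUupper ha')) (inv_mem (hUupper hb'))
  obtain ⟨τ, c, hc⟩ := Ngp_le S hm
  have hdiag : ∀ i, τ i = i ∧ c i = 1 := fun i => by
    have := mem_upper.1 hσm (Pi.single i 1) i fun z hz =>
      Pi.single_eq_of_ne (fun e => by subst e; exact lt_irrefl _ hz) _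
    rw [hc.1.2.2, Pi.single_eq_same] at this
    by_cases e : τ i = i
    · rw [e, Pi.single_eq_same] at this; exact ⟨e, this⟩
    · rw [Pi.single_eq_of_ne (Ne.symm e)] at this; exact absurd this zero_ne_one
  have hτ : τ = 1 := Equiv.ext fun i => (hdiag i).1
  subst hτ
  have hm1 : S.σ m = 1 := ext_single fun i => by rw [hc.1.2.2, (hdiag i).2, act_one]; rfl
  have hmc : ∀ y ∈ GX S, y * m = m * y := fun y hy => by
    refine (Subgroup.mem_centralizer_singleton_iff.1 ((Subgroup.closure_le _).2 ?_ hy)).symm.symm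
    rintro _ ⟨p, q, t, hpq, rfl⟩
    rw [SetLike.mem_coe, Subgroup.mem_centralizer_singleton_iff]
    have := hc.2 p q hpq t
    rw [(hdiag p).2, (hdiag q).2, one_mul, one_mul, Equiv.Perm.one_apply, Equiv.Perm.one_apply,
      mul_inv_eq_iff_eq_mul] at this
    exact this.symm
  have hab : a * b = 1 := by
    refine UL_inj S (k := 0) (mul_mem ha' hb') ?_
    rw [← h1, map_mul, map_mul, map_mul, hm1, mul_one]
  have e : a * m * b = m := by
    rw [hmc a ((V_le fun r _ => (Subgroup.closure_le _).2 (by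
      rintro _ ⟨t, rfl⟩; exact X_mem_GX S (lev_ne_rt r) t) : V rht (XX S) 1 ≤ GX S) ha), mul_assoc, hab, mul_one]
  rw [e]
  exact That_ker S (Ngp_trivial S hm ⟨c, hc⟩) hm1

end Cfsg.Agent.OPlusPres
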