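import Cfsg.Agent.DMult.Kernel

/-!
Groups with root elements satisfying the Steinberg relations of type `D_n` over the split orthogonal group.
-/

set_option autoImplicit false
set_option linter.unusedSectionVars false
set_option linter.unusedSimpArgs false
set_option maxHeartbeats 800000

open Matrix
open scoped commutatorElement MatrixGroups

namespace Cfsg.Agent.OPlusPres

open Chev.Ortho CurtisTitsD
open SLMult (tx)
open DMult (IsSec IsMonO levF lev_levF levF_bar levF_eq levF_ne isSec_update exists_sec wS hS wPerm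
  wPerm_apply emb emb_self emb_bar emb_single isSec_bar levF_sec isMonO_one wS_mul_inv wS_pair hS_mul
  wS_swap wS_mulVec)

universe u

variable (F : Type u) [Field F] (n : ℕ) (Γ : Type u) [Group Γ]

/-- Root elements satisfying the Steinberg relations, over the orthogonal group. -/
structure Rels where
  /-- The projection. -/
  σ : Γ →* OG F n
  /-- The root elements. -/
  X : Fin n ⊕ Fin n → Fin n ⊕ Fin n → F → Γ
  three : 3 ≤ n
  hσ : ∀ {a b : Fin n ⊕ Fin n} (h : Ok a b) (t : F), σ (X a b t) = el h t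
  swap : ∀ {a b : Fin n ⊕ Fin n}, lev a ≠ lev b → ∀ t : F, X b a t = X a b (-t)
  add : ∀ {a b : Fin n ⊕ Fin n}, lev a ≠ lev b → ∀ t u : F, X a b (t + u) = X a b t * X a b u
  rel : ∀ {a b c : Fin n ⊕ Fin n}, lev a ≠ lev b → lev a ≠ lev c → lev c ≠ lev b → ∀ t u : F,
    ⁅X a (bar c) t, X c b u⁆ = X a b (t * u)
  opp : ∀ {a b : Fin n ⊕ Fin n}, lev a ≠ lev b → ∀ t u : F, Commute (X a b t) (X a (bar b) u)
  comm : ∀ {a b c d : Fin n ⊕ Fin n}, lev a ≠ lev b → lev c ≠ lev d → bar b ≠ c → bar b ≠ d →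
    bar a ≠ c → bar a ≠ d → ∀ t u : F, Commute (X a b t) (X c d u)

variable {F n Γ} [Fintype F]

local notation "I" => Fin n ⊕ Fin n

variable (S : Rels F n Γ)

theorem σ_X {a b : I} (h : Ok a b) (t : F) : S.σ (S.X a b t) = el h t := S.hσ h t

theorem X_zero {a b : I} (h : lev a ≠ lev b) : S.X a b (0 : F) = 1 := by
  have := S.add h 0 0
  rw [add_zero] at this
  exact left_eq_mul.1 this

theorem X_inv {a b : I} (h : lev a ≠ lev b) (t : F) : (S.X a b t)⁻¹ = S.X a b (-t) := by
  refine inv_eq_of_mul_eq_one_right ?_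
  rw [← S.add h, add_neg_cancel, X_zero S h]

theorem exists_third (a b : Fin n ⊕ Fin n) : ∀ _ : Rels F n Γ,
    ∃ d : Fin n ⊕ Fin n, lev d ≠ lev a ∧ lev d ≠ lev b := fun S => by
  obtain ⟨i, hi⟩ := SLMult.exists_index ({levF a, levF b} : Finset (Fin n)) Finset.card_le_two
    (by rw [Fintype.card_fin]; have := S.three; omega)
  simp only [Finset.mem_insert, Finset.mem_singleton, not_or] at hi
  exact ⟨.inl i, levF_ne.1 hi.1, levF_ne.1 hi.2⟩

theorem exists_secLift {s : Fin n → I} (hs : IsSec s) :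
    ∃ f : SpecialLinearGroup (Fin n) F →* Γ,
      ∀ i j, i ≠ j → ∀ t : F, f (tx i j t) = S.X (s i) (bar (s j)) t := by
  classical
  have hne : ∀ {i j : Fin n}, i ≠ j → lev (s i) ≠ lev (s j) := fun h => hs.lev_ne h
  have hb : ∀ {i j : Fin n}, i ≠ j → lev (s i) ≠ lev (bar (s j)) := fun h => by
    rw [lev_bar]; exact hne h
  obtain ⟨f, hf⟩ := SteinbergSL.exists_hom (n := n) S.three (fun i j t => S.X (s i) (bar (s j)) t)
    (fun i j h a b => S.add (hb h) a b)
    (fun i j k l hij hkl hjk hil t u => by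
      by_cases hik : i = k
      · subst hik
        by_cases hjl : j = l
        · subst hjl
          rw [commute_iff_eq, ← S.add (hb hij), add_comm, S.add (hb hij)]
        refine S.comm (hb hij) (hb hkl) ?_ ?_ ?_ ?_ t u
        · rw [bar_bar]; exact fun e => hne hij.symm (by rw [e])
        · rw [bar_bar]; exact fun e => hne hjl (by rw [e, lev_bar])
        · exact bar_ne _
        · exact fun e => hne hil (by rw [bar_inj e])
      · by_cases hjl : j = l
        · subst hjl
          refine S.comm (hb hij) (hb hkl) ?_ ?_ ?_ ?_ t u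
          · rw [bar_bar]; exact fun e => hne hjk (by rw [e])
          · rw [bar_bar]; exact fun e => bar_ne (s j) e.symm
          · exact fun e => hne hik (by rw [← e, lev_bar])
          · exact fun e => hne hij (by rw [bar_inj e])
        refine S.comm (hb hij) (hb hkl) ?_ ?_ ?_ ?_ t u
        · rw [bar_bar]; exact fun e => hne hjk (by rw [e])
        · rw [bar_bar]; exact fun e => hne hjl (by rw [e, lev_bar])
        · exact fun e => hne hik (by rw [← e, lev_bar])
        · exact fun e => hne hil (by rw [bar_inj e]))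
    (fun i j k hij hjk hik t u => S.rel (hb hik) (hne hij) (hb hjk) t u)
  exact ⟨f, fun i j h t => by rw [SLMult.tx_eq h, hf]⟩

/-- The lift of the linear subgroup of a section. -/
noncomputable def f {s : Fin n → Fin n ⊕ Fin n} (hs : IsSec s) : SpecialLinearGroup (Fin n) F →* Γ :=
  (exists_secLift S hs).choose

theorem f_tx {s : Fin n → I} (hs : IsSec s) {i j : Fin n} (h : i ≠ j) (t : F) :
    f S hs (tx i j t) = S.X (s i) (bar (s j)) t :=
  (exists_secLift S hs).choose_spec i j h t

theorem X_eq_f {s : Fin n → I} (hs : IsSec s) {i j : Fin n} (h : i ≠ j) {a b : I} (ha : s i = a)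
    (hb : bar (s j) = b) (t : F) : S.X a b t = f S hs (tx i j t) := by
  rw [f_tx S hs h, ha, hb]

theorem σ_f {s : Fin n → I} (hs : IsSec s) {i j : Fin n} (h : i ≠ j) (t : F) :
    S.σ (f S hs (tx i j t)) = el (hs.ok h) t := by
  rw [f_tx S hs h, S.hσ (hs.ok h)]

section Nat_

variable {s : Fin n → Fin n ⊕ Fin n}

/-- The lift of the linear group acts naturally on a section and dually on the opposite one. -/
theorem σ_f_nat (hs : IsSec s) (g : SpecialLinearGroup (Fin n) F) :
    ∀ v : Fin n → F, act (S.σ (f S hs g)) (emb s v) = emb s (g.1 *ᵥ v) ∧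
      act (S.σ (f S hs g)) (emb (fun i => bar (s i)) (g.1ᵀ *ᵥ v)) = emb (fun i => bar (s i)) v := by
  let P : Subgroup (SpecialLinearGroup (Fin n) F) :=
    { carrier := {g | ∀ v, act (S.σ (f S hs g)) (emb s v) = emb s (g.1 *ᵥ v) ∧
        act (S.σ (f S hs g)) (emb (fun i => bar (s i)) (g.1ᵀ *ᵥ v)) = emb (fun i => bar (s i)) v}
      one_mem' := fun v => by simp [map_one, act_one]
      mul_mem' := fun {a b} ha hb v => by
        refine ⟨?_, ?_⟩
        · rw [map_mul, map_mul, act_mul, (hb v).1, (ha _).1, Matrix.SpecialLinearGroup.coe_mul,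
            Matrix.mulVec_mulVec]
        · rw [map_mul, map_mul, act_mul, Matrix.SpecialLinearGroup.coe_mul, Matrix.transpose_mul,
            ← Matrix.mulVec_mulVec, (hb _).2, (ha v).2]
      inv_mem' := fun {a} ha v => by
        have hinv : a.1 * (a⁻¹).1 = 1 := by
          rw [← Matrix.SpecialLinearGroup.coe_mul, mul_inv_cancel, Matrix.SpecialLinearGroup.coe_one]
        refine ⟨?_, ?_⟩
        · have := congrArg (act (S.σ (f S hs a⁻¹))) (ha ((a⁻¹).1 *ᵥ v)).1
          rw [← act_mul, ← map_mul, ← map_mul, inv_mul_cancel, map_one, map_one, act_one,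
            Matrix.mulVec_mulVec, hinv, Matrix.one_mulVec] at this
          exact this.symm
        · have := congrArg (act (S.σ (f S hs a⁻¹))) (ha v).2
          rw [← act_mul, ← map_mul, ← map_mul, inv_mul_cancel, map_one, map_one, act_one] at this
          have h2 := congrArg (act (S.σ (f S hs a⁻¹))) (ha ((a⁻¹).1ᵀ *ᵥ v)).2
          rw [← act_mul, ← map_mul, ← map_mul, inv_mul_cancel, map_one, map_one, act_one,
            Matrix.mulVec_mulVec, ← Matrix.transpose_mul, ← Matrix.SpecialLinearGroup.coe_mul,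
            inv_mul_cancel, Matrix.SpecialLinearGroup.coe_one, Matrix.transpose_one,
            Matrix.one_mulVec] at h2
          exact h2.symm }
  have hP : P = ⊤ := Classical.sl_eq_top_of_transvection P fun i j hij c => by
    rw [← SLMult.tx_eq hij]
    intro v
    rw [σ_f S hs hij]
    refine ⟨funext fun r => ?_, funext fun r => ?_⟩
    · rw [el_apply, bar_bar, emb_self hs, emb_bar hs, SLMult.tx_eq hij,
        Matrix.SpecialLinearGroup.transvection_coe, Classical.tv_mulVec]
      simp only [mul_zero, ite_self, sub_zero]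
      by_cases hr : r = s i
      · subst hr; simp [emb_self hs]
      · rw [if_neg hr, add_zero, emb, emb]
        split_ifs with h'
        · have : levF r ≠ i := fun e => hr (by rw [← h', e])
          simp [this]
        · rfl
    · have hb := isSec_bar hs
      have e1 : ∀ (v : Fin n → F) (k : Fin n), emb (fun i => bar (s i)) v (bar (s k)) = v k :=
        fun v k => emb_self hb v k
      have e2 : ∀ (v : Fin n → F) (k : Fin n), emb (fun i => bar (s i)) v (s k) = 0 := fun v k => by
        simpa [bar_bar] using emb_bar hb v k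
      have hg : (tx i j c : SpecialLinearGroup (Fin n) F).1ᵀ *ᵥ v = v + Pi.single j (c * v i) := by
        rw [SLMult.tx_eq hij, Matrix.SpecialLinearGroup.transvection_coe, Matrix.transpose_add,
          Matrix.transpose_one, Matrix.transpose_single,
          Classical.tv_mulVec]
      rw [el_apply, bar_bar, e2, e1, hg]
      simp only [mul_zero, ite_self, add_zero, Pi.add_apply, Pi.single_eq_of_ne hij]
      by_cases hr : r = bar (s j)
      · subst hr; simp [e1]
      · rw [if_neg hr, sub_zero, emb, emb]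
        split_ifs with h'
        · have : levF r ≠ j := fun e => hr (by rw [← h', e])
          simp [this]
        · rfl
  exact (hP ▸ Subgroup.mem_top g : g ∈ P)


theorem σ_f_injective (hs : IsSec s) : Function.Injective (fun g => S.σ (f S hs g)) := by
  intro g g' h
  refine Classical.sl_ext_mulVec fun v => ?_
  have h1 := (σ_f_nat S hs g v).1
  have h2 := (σ_f_nat S hs g' v).1
  dsimp only at h
  rw [h, h2] at h1
  funext i
  have := congrFun h1 (s i)
  rw [emb_self hs, emb_self hs] at this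
  exact this.symm

end Nat_

/-- The Weyl element of a root. -/
noncomputable def w (a b : Fin n ⊕ Fin n) (t : F) : Γ :=
  S.X a b t * S.X (bar a) (bar b) t⁻¹ * S.X a b t

/-- The torus element of a root. -/
noncomputable def h (a b : Fin n ⊕ Fin n) (t : F) : Γ := w S a b t * w S a b (-1)

theorem w_eq_f {s : Fin n → I} (hs : IsSec s) {i j : Fin n} (hij : i ≠ j) {a b : I} (ha : s i = a)
    (hb : bar (s j) = b) (t : F) : w S a b t = f S hs (wS i j t) := by
  have hlev : lev (bar b) ≠ lev (bar a) := by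
    rw [lev_bar, lev_bar, ← ha, ← hb, lev_bar]; exact hs.lev_ne hij.symm
  rw [w, S.swap hlev, X_eq_f S hs hij ha hb, X_eq_f S hs hij.symm (a := bar b) (b := bar a)
    (by rw [← hb, bar_bar]) (by rw [← ha]), wS, map_mul, map_mul]

theorem h_eq_f {s : Fin n → I} (hs : IsSec s) {i j : Fin n} (hij : i ≠ j) {a b : I} (ha : s i = a)
    (hb : bar (s j) = b) (t : F) : h S a b t = f S hs (hS i j t) := by
  rw [h, w_eq_f S hs hij ha hb, w_eq_f S hs hij ha hb, hS, map_mul]

theorem exists_sec_root {a b : I} (h : lev a ≠ lev b) :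
    ∃ (s : Fin n → I) (_ : IsSec s), s (levF a) = a ∧ bar (s (levF b)) = b := by
  obtain ⟨s, hs, sa, sb, -, -⟩ := exists_sec a (bar b) a a
  refine ⟨s, hs, sa, ?_⟩
  have := sb (by rw [lev_bar]; exact h.symm)
  rw [levF_bar] at this
  rw [this, bar_bar]

theorem w_inv {a b : I} (hab : lev a ≠ lev b) {t : F} (ht : t ≠ 0) : (w S a b t)⁻¹ = w S a b (-t) := by
  obtain ⟨s, hs, sa, sb⟩ := exists_sec_root hab
  have hne := levF_ne.2 hab
  refine inv_eq_of_mul_eq_one_right ?_
  rw [w_eq_f S hs hne sa sb, w_eq_f S hs hne sa sb, ← map_mul, wS_mul_inv hne ht, map_one]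

theorem w_bar {a b : I} (hab : lev a ≠ lev b) {t : F} (ht : t ≠ 0) :
    w S (bar a) (bar b) t = w S a b t⁻¹ := by
  obtain ⟨s, hs, sa, sb⟩ := exists_sec_root hab
  have hne := levF_ne.2 hab
  have hba : lev (bar b) ≠ lev (bar a) := by rw [lev_bar, lev_bar]; exact hab.symm
  have hw : w S (bar a) (bar b) t = w S (bar b) (bar a) (-t) := by
    have hba' : lev (bar (bar b)) ≠ lev (bar (bar a)) := by simp only [lev_bar]; exact hab.symm
    rw [w, w, S.swap hba, S.swap hba', inv_neg]
  rw [hw, w_eq_f S hs hne.symm (a := bar b) (b := bar a) (by rw [← congrArg bar sb, bar_bar]) (by rw [sa]),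
    w_eq_f S hs hne sa sb, wS_swap hne ht]

theorem isMonO_w {a b : I} (hab : lev a ≠ lev b) {t : F} (ht : t ≠ 0) :
    IsMonO (S.σ (w S a b t)) (wPerm a b)
      (fun i => if i = bar b then t else if i = a then -t⁻¹ else if i = bar a then -t else
        if i = b then t⁻¹ else 1) := by
  have h1 : Ok a b := ok_of_lev hab
  have h2 : Ok (bar a) (bar b) := ok_of_lev (by rwa [lev_bar, lev_bar])
  have g1 : bar b ≠ a := fun e => hab (by rw [← e, lev_bar])
  have g2 : bar a ≠ b := fun e => hab (by rw [← e, lev_bar])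
  have g3 : a ≠ b := h1.1
  have g4 : bar a ≠ bar b := fun e => g3 (bar_inj e)
  refine ⟨fun i => ?_, fun i => ?_, fun i => ?_⟩
  · have e : ∀ x : I, bar i = x ↔ i = bar x := fun x =>
      ⟨fun h => by rw [← h, bar_bar], fun h => by rw [h, bar_bar]⟩
    rw [wPerm_apply hab, wPerm_apply hab]
    simp only [e, bar_bar]
    by_cases i1 : i = bar b
    · subst i1; simp [g1, g1.symm, g2, g2.symm, g3, g3.symm, g4, g4.symm, bar_ne, (bar_ne _).symm]
    by_cases i2 : i = a
    · subst i2; simp [g1, g1.symm, g2, g2.symm, g3, g3.symm, g4, g4.symm, bar_ne, (bar_ne _).symm]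
    by_cases i3 : i = bar a
    · subst i3; simp [g1, g1.symm, g2, g2.symm, g3, g3.symm, g4, g4.symm, bar_ne, (bar_ne _).symm]
    by_cases i4 : i = b
    · subst i4; simp [g1, g1.symm, g2, g2.symm, g3, g3.symm, g4, g4.symm, bar_ne, (bar_ne _).symm]
    simp [i1, i2, i3, i4]
  · by_cases i1 : i = bar b
    · subst i1; simp [bar_bar, g1.symm, g3.symm, g4, g4.symm, g2.symm, (bar_ne b).symm, ht]
    by_cases i2 : i = a
    · subst i2; simp [g4, (bar_ne i).symm, g2, bar_ne, g1.symm, ht]
    by_cases i3 : i = bar a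
    · subst i3; simp [bar_bar, g4, bar_ne, g1.symm, g3, (bar_ne a).symm, ht]
    by_cases i4 : i = b
    · subst i4; simp [g1, g3.symm, g2.symm, (bar_ne i).symm, ht]
    have j1 : bar i ≠ bar b := fun e => i4 (bar_inj e)
    have j2 : bar i ≠ a := fun e => i3 (by rw [← e, bar_bar])
    have j3 : bar i ≠ bar a := fun e => i2 (bar_inj e)
    have j4 : bar i ≠ b := fun e => i1 (by rw [← e, bar_bar])
    simp [i1, i2, i3, i4, j1, j2, j3, j4]
  · rw [w, map_mul, map_mul, σ_X S h1, σ_X S h2]
    funext r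
    simp only [act_mul, el_apply, bar_bar, Pi.single_apply, wPerm_apply hab]
    by_cases i1 : i = bar b
    · subst i1
      by_cases r1 : r = a
      · subst r1
        simp [g1, g1.symm, g2, g2.symm, g3, g3.symm, g4, g4.symm, bar_ne, (bar_ne _).symm, ht]
      by_cases r2 : r = bar b
      · subst r2
        simp [g1, g1.symm, g2, g2.symm, g3, g3.symm, g4, g4.symm, bar_ne, (bar_ne _).symm, ht, r1]
      simp [g1, g1.symm, g2, g2.symm, g3, g3.symm, g4, g4.symm, bar_ne, (bar_ne _).symm, r1, r2]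
    by_cases i2 : i = a
    · subst i2
      by_cases r1 : r = i
      · subst r1
        simp [g1, g1.symm, g2, g2.symm, g3, g3.symm, g4, g4.symm, bar_ne, (bar_ne _).symm, ht]
      by_cases r2 : r = bar b
      · subst r2
        simp [g1, g1.symm, g2, g2.symm, g3, g3.symm, g4, g4.symm, bar_ne, (bar_ne _).symm, ht]
      simp [g1, g1.symm, g2, g2.symm, g3, g3.symm, g4, g4.symm, bar_ne, (bar_ne _).symm, r1, r2]
    by_cases i3 : i = bar a
    · subst i3
      by_cases r1 : r = b
      · subst r1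
        simp [g1, g1.symm, g2, g2.symm, g3, g3.symm, g4, g4.symm, bar_ne, (bar_ne _).symm, ht]
      by_cases r2 : r = bar a
      · subst r2
        simp [g1, g1.symm, g2, g2.symm, g3, g3.symm, g4, g4.symm, bar_ne, (bar_ne _).symm, ht]
      simp [g1, g1.symm, g2, g2.symm, g3, g3.symm, g4, g4.symm, bar_ne, (bar_ne _).symm, r1, r2]
    by_cases i4 : i = b
    · subst i4
      by_cases r1 : r = i
      · subst r1
        simp [g1, g1.symm, g2, g2.symm, g3, g3.symm, g4, g4.symm, bar_ne, (bar_ne _).symm, ht]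
      by_cases r2 : r = bar a
      · subst r2
        simp [g1, g1.symm, g2, g2.symm, g3, g3.symm, g4, g4.symm, bar_ne, (bar_ne _).symm, ht, r1]
      simp [g1, g1.symm, g2, g2.symm, g3, g3.symm, g4, g4.symm, bar_ne, (bar_ne _).symm, r1, r2]
    simp [i1, i2, i3, i4, Ne.symm i1, Ne.symm i2, Ne.symm i3, Ne.symm i4]


/-- A monomial element acting on the root elements as on the model. -/
def MonC (g : Γ) (τ : Equiv.Perm (Fin n ⊕ Fin n)) (c : Fin n ⊕ Fin n → F) : Prop :=
  IsMonO (S.σ g) τ c ∧ ∀ a b, lev a ≠ lev b → ∀ t : F,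
    g * S.X a b t * g⁻¹ = S.X (τ a) (τ b) (c a * c b * t)

theorem MonC.mul {g g' : Γ} {τ τ' : Equiv.Perm I} {c c' : I → F} (h1 : MonC S g τ c)
    (h2 : MonC S g' τ' c') : MonC S (g * g') (τ * τ') fun i => c' i * c (τ' i) := by
  refine ⟨by rw [map_mul]; exact h1.1.mul h2.1, fun a b hab t => ?_⟩
  have hab' : lev (τ' a) ≠ lev (τ' b) := lev_ne_of_ok (h2.1.ok (ok_of_lev hab))
  rw [show g * g' * S.X a b t * (g * g')⁻¹ = g * (g' * S.X a b t * g'⁻¹) * g⁻¹ by group,
    h2.2 a b hab, h1.2 _ _ hab', Equiv.Perm.mul_apply, Equiv.Perm.mul_apply]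
  congr 1; ring

theorem MonC.inv {g : Γ} {τ : Equiv.Perm I} {c : I → F} (h1 : MonC S g τ c) :
    MonC S g⁻¹ τ⁻¹ fun i => (c (τ⁻¹ i))⁻¹ := by
  have hi : IsMonO (S.σ g⁻¹) τ⁻¹ fun i => (c (τ⁻¹ i))⁻¹ := by rw [map_inv]; exact h1.1.inv
  refine ⟨hi, fun a b hab t => ?_⟩
  have hab' : lev (τ⁻¹ a) ≠ lev (τ⁻¹ b) := lev_ne_of_ok (hi.ok (ok_of_lev hab))
  have e := h1.2 _ _ hab' ((c (τ⁻¹ a))⁻¹ * (c (τ⁻¹ b))⁻¹ * t)
  simp only [Equiv.Perm.coe_inv, Equiv.apply_symm_apply] at e
  have hc : c (τ.symm a) * c (τ.symm b) * ((c (τ.symm a))⁻¹ * (c (τ.symm b))⁻¹ * t) = t := by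
    have := h1.1.ne_zero (τ.symm a); have := h1.1.ne_zero (τ.symm b)
    field_simp
  rw [hc] at e
  simp only [Equiv.Perm.coe_inv]
  rw [← e, inv_inv]
  group

theorem monC_one : MonC S 1 1 fun _ => 1 :=
  ⟨by rw [map_one]; exact isMonO_one, fun a b _ t => by simp⟩

theorem w_conj_one {a b p q : I} (hab : lev a ≠ lev b) (hpq : lev p ≠ lev q)
    (hq : lev q ≠ lev a ∧ lev q ≠ lev b) {t : F} (ht : t ≠ 0) (u : F) :
    w S a b t * S.X p q u * (w S a b t)⁻¹ = S.X (wPerm a b p) (wPerm a b q)
      ((fun i => if i = bar b then t else if i = a then -t⁻¹ else if i = bar a then -t else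
        if i = b then t⁻¹ else 1) p * (fun i => if i = bar b then t else if i = a then -t⁻¹ else
        if i = bar a then -t else if i = b then t⁻¹ else 1) q * u) := by
  have hc := isMonO_w S hab ht
  set c : I → F := fun i => if i = bar b then t else if i = a then -t⁻¹ else if i = bar a then -t else
    if i = b then t⁻¹ else 1
  -- a presentation of the Weyl element in a section through the other root
  obtain ⟨a', b', t', hw, hp, hl, ht'⟩ : ∃ a' b' : I, ∃ t' : F, w S a b t = w S a' b' t' ∧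
      (lev p = lev a' → p = a') ∧ ((lev a' = lev a ∧ lev b' = lev b) ∧ (lev p = lev b' → p = bar b')) ∧
        t' ≠ 0 := by
    by_cases h1 : lev p = lev a
    · rcases lev_eq h1 with e | e
      · exact ⟨a, b, t, rfl, fun _ => e, ⟨⟨rfl, rfl⟩, fun e' => absurd (h1.symm.trans e') hab⟩, ht⟩
      · refine ⟨bar a, bar b, t⁻¹, ?_, fun _ => e, ⟨⟨lev_bar _, lev_bar _⟩, fun e' => ?_⟩,
          inv_ne_zero ht⟩
        · rw [w_bar S hab (inv_ne_zero ht), inv_inv]
        · rw [lev_bar] at e'; exact absurd (h1.symm.trans e') hab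
    · by_cases h2 : lev p = lev b
      · rcases lev_eq h2 with e | e
        · refine ⟨bar a, bar b, t⁻¹, ?_, fun e' => absurd (by rwa [lev_bar] at e') h1,
            ⟨⟨lev_bar _, lev_bar _⟩, fun _ => by rw [bar_bar]; exact e⟩, inv_ne_zero ht⟩
          rw [w_bar S hab (inv_ne_zero ht), inv_inv]
        · exact ⟨a, b, t, rfl, fun e' => absurd e' h1, ⟨⟨rfl, rfl⟩, fun _ => e⟩, ht⟩
      · exact ⟨a, b, t, rfl, fun e' => absurd e' h1, ⟨⟨rfl, rfl⟩, fun e' => absurd e' h2⟩, ht⟩
  obtain ⟨⟨la, lb⟩, hpb⟩ := hl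
  have hab' : lev a' ≠ lev b' := by rw [la, lb]; exact hab
  obtain ⟨s, hs, sa, sb, sp, sq⟩ := exists_sec a' (bar b') p (bar q)
  have sb' : bar (s (levF b')) = b' := by
    have := sb (by rw [lev_bar]; exact hab'.symm); rw [levF_bar] at this; rw [this, bar_bar]
  have sp' : s (levF p) = p := by
    by_cases h1 : lev p = lev a'
    · rw [hp h1]; exact sa
    by_cases h2 : lev p = lev b'
    · have := sb (by rw [lev_bar]; exact hab'.symm)
      rw [hpb h2]; exact this
    exact sp h1 (by rwa [lev_bar])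
  have sq' : bar (s (levF q)) = q := by
    have := sq (by rw [lev_bar, la]; exact hq.1) (by rw [lev_bar, lev_bar, lb]; exact hq.2)
      (by rw [lev_bar]; exact hpq.symm)
    rw [levF_bar] at this; rw [this, bar_bar]
  have nab := levF_ne.2 hab'
  have npq := levF_ne.2 hpq
  have hσ : S.σ (w S a b t * S.X p q u * (w S a b t)⁻¹) =
      el (hc.ok (ok_of_lev hpq)) (c p * c q * u) := by
    rw [map_mul, map_mul, map_inv, σ_X S (ok_of_lev hpq)]; exact hc.conj_el _ u
  -- the image stays in the section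
  obtain ⟨i', j', hij', si, sj⟩ : ∃ i' j', i' ≠ j' ∧ s i' = wPerm a b p ∧ bar (s j') = wPerm a b q := by
    have hqfix : wPerm a b q = q := DMult.wPerm_fix hab hq.1 hq.2
    have hcase : ∃ i', s i' = wPerm a b p ∧ i' ≠ levF q := by
      have hpab : lev a' ≠ lev q := by rw [la]; exact hq.1.symm
      have hpbb : lev b' ≠ lev q := by rw [lb]; exact hq.2.symm
      by_cases h1 : lev p = lev a'
      · refine ⟨levF b', ?_, levF_ne.2 hpbb⟩
        rw [← bar_bar (s (levF b')), sb']
        have hpe := hp h1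
        have hm2 := isMonO_w S hab' ht'
        have h4 : wPerm a b = wPerm a' b' :=
          hc.perm_unique (show IsMonO (S.σ (w S a b t)) _ _ by rw [hw]; exact hm2)
        rw [h4, hpe, DMult.wPerm_left hab']
      by_cases h2 : lev p = lev b'
      · refine ⟨levF a', ?_, levF_ne.2 hpab⟩
        have hm2 := isMonO_w S hab' ht'
        have h4 : wPerm a b = wPerm a' b' :=
          hc.perm_unique (show IsMonO (S.σ (w S a b t)) _ _ by rw [hw]; exact hm2)
        rw [h4, hpb h2, DMult.wPerm_left_bar hab', sa]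
      refine ⟨levF p, ?_, npq⟩
      rw [DMult.wPerm_fix hab (by rw [← la]; exact h1) (by rw [← lb]; exact h2), sp']
    obtain ⟨i', hi', hne⟩ := hcase
    exact ⟨i', levF q, hne, hi', by rw [hqfix, sq']⟩
  rw [hw, w_eq_f S hs nab sa sb', X_eq_f S hs npq sp' sq', X_eq_f S hs hij' si sj, ← map_inv, ← map_mul,
    ← map_mul]
  congr 1
  refine σ_f_injective S hs ?_
  show S.σ _ = S.σ _
  rw [map_mul (f S hs), map_mul (f S hs), map_inv (f S hs), ← w_eq_f S hs nab sa sb', ← hw,
    ← X_eq_f S hs npq sp' sq', hσ, σ_f S hs hij']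
  exact el_congr _ _ si.symm sj.symm _

/-- The Weyl elements act on all root elements as in the model. -/
theorem monC_w {a b : I} (hab : lev a ≠ lev b) {t : F} (ht : t ≠ 0) :
    MonC S (w S a b t) (wPerm a b)
      (fun i => if i = bar b then t else if i = a then -t⁻¹ else if i = bar a then -t else
        if i = b then t⁻¹ else 1) := by
  have hc := isMonO_w S hab ht
  refine ⟨hc, fun p q hpq u => ?_⟩
  by_cases hq : lev q ≠ lev a ∧ lev q ≠ lev b
  · exact w_conj_one S hab hpq hq ht u
  by_cases hp : lev p ≠ lev a ∧ lev p ≠ lev b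
  · rw [S.swap hpq.symm u, w_conj_one S hab hpq.symm hp ht,
      S.swap (lev_ne_of_ok (hc.ok (ok_of_lev hpq.symm)))]
    congr 1; ring
  -- both levels of the root are those of the Weyl element
  have hL : ∀ {x : I}, ¬(lev x ≠ lev a ∧ lev x ≠ lev b) → lev x = lev a ∨ lev x = lev b :=
    fun h => by tauto
  obtain ⟨d, hda, hdb⟩ := exists_third a b S
  have hdp : lev p ≠ lev d := fun e => by
    rcases hL hp with h' | h' <;> rw [e] at h'
    · exact hda h'
    · exact hdb h'
  have hdq : lev d ≠ lev q := fun e => by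
    rcases hL hq with h' | h' <;> rw [← e] at h'
    · exact hda h'
    · exact hdb h'
  set c : I → F := fun i => if i = bar b then t else if i = a then -t⁻¹ else if i = bar a then -t else
    if i = b then t⁻¹ else 1
  have hdb' : lev (bar d) ≠ lev a ∧ lev (bar d) ≠ lev b := by rw [lev_bar]; exact ⟨hda, hdb⟩
  have f1 := w_conj_one S hab (p := p) (q := bar d) (by rw [lev_bar]; exact hdp) hdb' ht u
  have f2 := w_conj_one S hab (p := q) (q := d) hdq.symm ⟨hda, hdb⟩ ht (-1)
  have fd : wPerm a b d = d := DMult.wPerm_fix hab hda hdb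
  have fdb : wPerm a b (bar d) = bar d := DMult.wPerm_fix hab hdb'.1 hdb'.2
  have cd : c d = 1 ∧ c (bar d) = 1 := by
    have e : ∀ x, lev x ≠ lev a ∧ lev x ≠ lev b → c x = 1 := fun x hx => by
      simp only [c]
      rw [if_neg (fun e => hx.2 (by rw [e, lev_bar])), if_neg (fun e => hx.1 (by rw [e])),
        if_neg (fun e => hx.1 (by rw [e, lev_bar])), if_neg (fun e => hx.2 (by rw [e]))]
    exact ⟨e d ⟨hda, hdb⟩, e _ hdb'⟩
  rw [← S.swap hdq.symm] at f2
  rw [show S.X p q u = ⁅S.X p (bar d) u, S.X d q 1⁆ by rw [S.rel hpq hdp hdq, mul_one],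
    show ∀ g x y : Γ, g * ⁅x, y⁆ * g⁻¹ = ⁅g * x * g⁻¹, g * y * g⁻¹⁆ from
      fun g x y => by simp only [commutatorElement_def]; group, f1]
  have hne : ∀ {x y : I}, lev x ≠ lev y → lev (wPerm a b x) ≠ lev (wPerm a b y) :=
    fun h => lev_ne_of_ok (hc.ok (ok_of_lev h))
  have hqd := hne hdq.symm
  rw [f2, S.swap hqd.symm, fd, fdb]
  have h1 := hne hdp; rw [fd] at h1
  have h2 := hne hdq; rw [fd] at h2
  rw [S.rel (hne hpq) h1 h2]
  congr 1
  have e1 := cd.1
  have e2 := cd.2
  simp only [c] at e1 e2 ⊢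
  rw [e1, e2]
  ring

end Cfsg.Agent.OPlusPres
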