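import Cfsg.Agent.OPlusPres.St.Mon

/-!
Diagonal elements are monomial.
-/

set_option autoImplicit false
set_option linter.unusedSectionVars false
set_option linter.unusedSimpArgs false
set_option maxHeartbeats 800000

open Matrix
open scoped commutatorElement MatrixGroups

namespace Cfsg.Agent.OPlusPres

open Chev.Ortho CurtisTitsD
open SLMult (tx)
open DMult (IsSec IsMonO levF lev_levF levF_bar levF_eq levF_ne exists_sec wS hS hS_coe wPerm wPerm_apply
  wPerm_sq wPerm_left wPerm_left_bar wPerm_fix wPerm_bar wPerm_hgt emb_single isSec_bar isMonO_one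
  wS_mul_inv wS_pair hS_mul Tor dg crt dg_crt isSec_inl dgc Nd)

universe u

variable {F : Type u} [Field F] [Fintype F] {n : ℕ} {Γ : Type u} [Group Γ]

local notation "I" => Fin n ⊕ Fin n

variable (S : Rels F n Γ)

theorem crt_mon {i j : Fin n} (hij : i ≠ j) (t : Fˣ) : IsMon S (f S isSec_inl (dg (crt hij t))) 1 := by
  have hlev : lev (Sum.inl i : I) ≠ lev (Sum.inr j : I) := fun e => hij (Fin.ext e)
  rw [dg_crt, ← h_eq_f S isSec_inl hij (a := Sum.inl i) (b := Sum.inr j) rfl rfl]
  exact h_mon S hlev t.ne_zero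

theorem tor_prod (u : Tor F n) (L : Fin n) :
    u = ∏ i, if h : i ≠ L then crt h ((u : Fin n → Fˣ) i) else 1 := by
  refine Subtype.ext (funext fun r => ?_)
  rw [Subgroup.val_finsetProd, Finset.prod_apply]
  have hu : ∏ i, (u : Fin n → Fˣ) i = 1 := u.2
  by_cases hr : r = L
  · subst hr
    rw [← Finset.mul_prod_erase _ _ (Finset.mem_univ r), dif_neg (by simp), Subgroup.coe_one,
      Pi.one_apply, one_mul]
    rw [← Finset.mul_prod_erase _ _ (Finset.mem_univ r)] at hu
    rw [eq_inv_of_mul_eq_one_left hu, ← Finset.prod_inv_distrib]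
    refine Finset.prod_congr rfl fun i hi => ?_
    have hi' : i ≠ r := (Finset.mem_erase.1 hi).1
    rw [dif_pos hi']
    simp [crt, hi'.symm]
  · rw [Finset.prod_eq_single r (fun i _ hir => ?_) (by simp)]
    · rw [dif_pos hr]; simp [crt, hr]
    · split_ifs with h
      · simp [crt, Ne.symm hir, hr]
      · rfl

theorem exists_mon_dg (u : Tor F n) : IsMon S (f S isSec_inl (dg u)) 1 := by
  have L : Fin n := ⟨0, by have := S.three; omega⟩
  let K : Subgroup (Tor F n) :=
    { carrier := {v | IsMon S (f S isSec_inl (dg v)) 1}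
      one_mem' := by
        show IsMon S (f S isSec_inl (dg 1)) 1
        rw [map_one, map_one]; exact isMon_one S
      mul_mem' := fun {v w} hv hw => by
        show IsMon S (f S isSec_inl (dg (v * w))) 1
        rw [map_mul, map_mul]
        simpa using hv.mul S hw
      inv_mem' := fun {v} hv => by
        show IsMon S (f S isSec_inl (dg v⁻¹)) 1
        rw [map_inv, map_inv]
        simpa using hv.inv S }
  rw [tor_prod u L]
  refine (prod_mem fun i _ => ?_ : (∏ i, if h : i ≠ L then crt h ((u : Fin n → Fˣ) i) else 1) ∈ K)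
  split_ifs with h
  · exact crt_mon S h _
  · exact one_mem K

end Cfsg.Agent.OPlusPres
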