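import Cfsg.Agent.OPlusPres.St.Base

/-!
Monomial elements over root elements with the Steinberg relations.
-/

set_option autoImplicit false
set_option linter.unusedSectionVars false
set_option linter.unusedSimpArgs false
set_option maxHeartbeats 800000

open Matrix
open scoped commutatorElement MatrixGroups

namespace Cfsg.Agent.OPlusPres

open Chev.Ortho CurtisTitsD
open SLMult (tx)
open DMult (IsSec IsMonO levF lev_levF levF_bar levF_eq levF_ne exists_sec wS hS hS_coe wPerm wPerm_apply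
  wPerm_sq wPerm_left wPerm_left_bar wPerm_fix wPerm_bar wPerm_hgt emb_single isSec_bar isMonO_one
  wS_mul_inv wS_pair hS_mul Tor dg crt dg_crt isSec_inl dgc Nd)

universe u

variable {F : Type u} [Field F] [Fintype F] {n : ℕ} {Γ : Type u} [Group Γ]

local notation "I" => Fin n ⊕ Fin n

variable (S : Rels F n Γ)

/-- A monomial element. -/
def IsMon (g : Γ) (τ : Equiv.Perm (Fin n ⊕ Fin n)) : Prop := ∃ c, MonC S g τ c

theorem IsMon.mul {g g' : Γ} {τ τ' : Equiv.Perm I} (h : IsMon S g τ) (h' : IsMon S g' τ') :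
    IsMon S (g * g') (τ * τ') := by
  obtain ⟨c, hc⟩ := h; obtain ⟨c', hc'⟩ := h'
  exact ⟨_, hc.mul S hc'⟩

theorem IsMon.inv {g : Γ} {τ : Equiv.Perm I} (h : IsMon S g τ) : IsMon S g⁻¹ τ⁻¹ := by
  obtain ⟨c, hc⟩ := h
  exact ⟨_, hc.inv S⟩

theorem isMon_one : IsMon S 1 1 := ⟨_, monC_one S⟩

/-- The group of monomial elements. -/
def monGroup : Subgroup Γ where
  carrier := {g | ∃ τ, IsMon S g τ}
  one_mem' := ⟨1, isMon_one S⟩
  mul_mem' := fun ⟨_, h⟩ ⟨_, h'⟩ => ⟨_, h.mul S h'⟩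
  inv_mem' := fun ⟨_, h⟩ => ⟨_, h.inv S⟩

theorem IsMon.mem {g : Γ} {τ : Equiv.Perm I} (h : IsMon S g τ) : g ∈ monGroup S := ⟨τ, h⟩

theorem X_mon {g : Γ} {τ : Equiv.Perm I} {c : I → F} (h : MonC S g τ c) {a b : I}
    (hab : lev a ≠ lev b) (t : F) : g * S.X a b t * g⁻¹ = S.X (τ a) (τ b) (c a * c b * t) :=
  h.2 a b hab t

theorem w_mon {a b : I} (hab : lev a ≠ lev b) {t : F} (ht : t ≠ 0) :
    IsMon S (w S a b t) (wPerm a b) :=
  ⟨_, monC_w S hab ht⟩

theorem h_mul {a b : I} (hab : lev a ≠ lev b) {t u : F} (ht : t ≠ 0) (hu : u ≠ 0) :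
    h S a b t * h S a b u = h S a b (t * u) := by
  obtain ⟨s, hs, sa, sb⟩ := exists_sec_root hab
  have hne := levF_ne.2 hab
  simp only [h_eq_f S hs hne sa sb, ← map_mul, hS_mul hne ht hu]

theorem h_one {a b : I} (hab : lev a ≠ lev b) : h S a b (1 : F) = 1 := by
  rw [h, ← w_inv S hab one_ne_zero, mul_inv_cancel]

theorem w_swap {a b : I} (hab : lev a ≠ lev b) (t : F) : w S b a t = w S a b (-t) := by
  have hab' : lev (bar a) ≠ lev (bar b) := by rwa [lev_bar, lev_bar]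
  rw [w, w, S.swap hab, S.swap hab', inv_neg]

theorem h_swap {a b : I} (hab : lev a ≠ lev b) {t : F} (ht : t ≠ 0) : h S b a t = h S a b t := by
  obtain ⟨s, hs, sa, sb⟩ := exists_sec_root hab
  have hne := levF_ne.2 hab
  rw [h_eq_f S hs hne sa sb, ← wS_pair hne ht (neg_ne_zero.2 one_ne_zero : (-1 : F) ≠ 0), h,
    w_swap S hab, w_swap S hab, w_eq_f S hs hne sa sb, w_eq_f S hs hne sa sb, ← map_mul, neg_one_mul,
    neg_one_mul]

theorem h_bar {a b : I} (hab : lev a ≠ lev b) {t : F} (ht : t ≠ 0) :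
    h S (bar a) (bar b) t = h S a b t⁻¹ := by
  rw [h, h, w_bar S hab ht, w_bar S hab (neg_ne_zero.2 one_ne_zero), inv_neg, inv_one]

theorem h_mon {a b : I} (hab : lev a ≠ lev b) {t : F} (ht : t ≠ 0) : IsMon S (h S a b t) 1 := by
  rw [← wPerm_sq hab]
  exact (w_mon S hab ht).mul S (w_mon S hab (neg_ne_zero.2 one_ne_zero))

/-- Conjugating Weyl elements. -/
theorem w_conj {g : Γ} {τ : Equiv.Perm I} {c : I → F} (hg : MonC S g τ c) {a b : I}
    (hab : lev a ≠ lev b) (t : F) : g * w S a b t * g⁻¹ = w S (τ a) (τ b) (c a * c b * t) := by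
  have h' : lev (bar a) ≠ lev (bar b) := by rwa [lev_bar, lev_bar]
  have e : c (bar a) * c (bar b) * t⁻¹ = (c a * c b * t)⁻¹ := by
    rw [mul_inv, mul_inv, eq_inv_of_mul_eq_one_right (hg.1.2.1 a), eq_inv_of_mul_eq_one_right (hg.1.2.1 b)]
  rw [w, show g * (S.X a b t * S.X (bar a) (bar b) t⁻¹ * S.X a b t) * g⁻¹ =
      g * S.X a b t * g⁻¹ * (g * S.X (bar a) (bar b) t⁻¹ * g⁻¹) * (g * S.X a b t * g⁻¹) by group,
    X_mon S hg hab, X_mon S hg h', e, hg.1.1, hg.1.1, w]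

theorem h_conj {g : Γ} {τ : Equiv.Perm I} (hg : IsMon S g τ) {a b : I} (hab : lev a ≠ lev b) {t : F}
    (ht : t ≠ 0) : g * h S a b t * g⁻¹ = h S (τ a) (τ b) t := by
  obtain ⟨c, hc⟩ := hg
  have hne : lev (τ a) ≠ lev (τ b) := lev_ne_of_ok (hc.1.ok (ok_of_lev hab))
  obtain ⟨s, hs, sa, sb⟩ := exists_sec_root hne
  rw [h, show g * (w S a b t * w S a b (-1)) * g⁻¹ =
      g * w S a b t * g⁻¹ * (g * w S a b (-1) * g⁻¹) by group,
    w_conj S hc hab, w_conj S hc hab, h_eq_f S hs (levF_ne.2 hne) sa sb, w_eq_f S hs (levF_ne.2 hne) sa sb,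
    w_eq_f S hs (levF_ne.2 hne) sa sb, ← map_mul,
    wS_pair (levF_ne.2 hne) ht (mul_ne_zero (hc.1.ne_zero a) (hc.1.ne_zero b))]

theorem h_comm {g : Γ} (hg : IsMon S g 1) {a b : I} (hab : lev a ≠ lev b) {t : F} (ht : t ≠ 0) :
    Commute g (h S a b t) := by
  have := h_conj S hg hab ht
  rwa [Equiv.Perm.one_apply, Equiv.Perm.one_apply, mul_inv_eq_iff_eq_mul] at this

end Cfsg.Agent.OPlusPres
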