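import Cfsg.Agent.OPlusPres.St.Torus

/-!
The Weyl quotient.
-/

set_option autoImplicit false
set_option linter.unusedSectionVars false
set_option linter.unusedSimpArgs false
set_option maxHeartbeats 800000

open Matrix
open scoped commutatorElement MatrixGroups

namespace Cfsg.Agent.OPlusPres

open Chev.Ortho CurtisTitsD
open SLMult (tx)
open DMult (IsSec IsMonO levF lev_levF levF_bar levF_eq levF_ne exists_sec wS hS hS_coe wPerm wPerm_apply
  wPerm_sq wPerm_left wPerm_left_bar wPerm_fix wPerm_bar wPerm_hgt emb_single isSec_bar isMonO_one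
  wS_mul_inv wS_pair hS_mul Tor dg crt dg_crt isSec_inl dgc Nd)

universe u

variable {F : Type u} [Field F] [Fintype F] {n : ℕ} {Γ : Type u} [Group Γ]

local notation "I" => Fin n ⊕ Fin n

variable (S : Rels F n Γ)

/-- The permutation of a monomial element. -/
noncomputable def perm : monGroup S →* Equiv.Perm (Fin n ⊕ Fin n) :=
  MonoidHom.mk' (fun g => g.2.choose) fun g g' => by
    obtain ⟨c, hc⟩ := (g * g').2.choose_spec
    obtain ⟨c', hc'⟩ := g.2.choose_spec.mul S g'.2.choose_spec
    exact hc.1.perm_unique hc'.1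

theorem isMon_perm (g : monGroup S) : IsMon S (g : Γ) (perm S g) := g.2.choose_spec

theorem perm_eq {g : monGroup S} {τ : Equiv.Perm I} (h : IsMon S (g : Γ) τ) : perm S g = τ := by
  obtain ⟨c, hc⟩ := isMon_perm S g
  obtain ⟨c', hc'⟩ := h
  exact hc.1.perm_unique hc'.1

theorem That_le_monGroup : That S ≤ monGroup S := fun _ hx => (That_isMon S hx).mem S

instance That_normal : ((That S).subgroupOf (monGroup S)).Normal := ⟨fun x hx g => by
  rw [Subgroup.mem_subgroupOf, Subgroup.coe_mul, Subgroup.coe_mul, Subgroup.coe_inv]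
  exact That_conj S (isMon_perm S g) (Subgroup.mem_subgroupOf.1 hx)⟩

/-- The Weyl quotient. -/
abbrev WQ : Type u := monGroup S ⧸ (That S).subgroupOf (monGroup S)

/-- The permutation on the Weyl quotient. -/
noncomputable def qperm : WQ S →* Equiv.Perm (Fin n ⊕ Fin n) :=
  QuotientGroup.lift _ (perm S) fun x hx => perm_eq S (That_isMon S (Subgroup.mem_subgroupOf.1 hx))

theorem qperm_bar (q : WQ S) (x : I) : qperm S q (bar x) = bar (qperm S q x) := by
  obtain ⟨g, rfl⟩ := QuotientGroup.mk_surjective q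
  obtain ⟨c, hc⟩ := isMon_perm S g
  exact hc.1.1 x

open scoped _root_.Classical in
/-- A reflection in the Weyl quotient. -/
noncomputable def W (a b : Fin n ⊕ Fin n) : WQ S :=
  if h : lev a ≠ lev b then
    QuotientGroup.mk ⟨w S a b 1, (w_mon S h one_ne_zero).mem S⟩ else 1

theorem W_eq {a b : I} (h : lev a ≠ lev b) {t : F} (ht : t ≠ 0) (g : monGroup S)
    (hg : (g : Γ) = w S a b t) : (QuotientGroup.mk g : WQ S) = W S a b := by
  rw [W, dif_pos h, QuotientGroup.eq, Subgroup.mem_subgroupOf, Subgroup.coe_mul, Subgroup.coe_inv, hg]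
  have e : (w S a b t)⁻¹ * w S a b 1 = OPlusPres.h S a b (-t) * (OPlusPres.h S a b (-1))⁻¹ := by
    rw [OPlusPres.h, OPlusPres.h, _root_.mul_inv_rev, w_inv S h ht, ← w_inv S h one_ne_zero, inv_inv]
    group
  rw [e]
  exact mul_mem (h_mem_That S h (neg_ne_zero.2 ht))
    (inv_mem (h_mem_That S h (neg_ne_zero.2 one_ne_zero)))

theorem qperm_mk (g : monGroup S) : qperm S (QuotientGroup.mk g) = perm S g := rfl

theorem qperm_W {a b : I} (h : lev a ≠ lev b) : qperm S (W S a b) = wPerm a b := by
  rw [W, dif_pos h, qperm_mk]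
  exact perm_eq S (w_mon S h one_ne_zero)

theorem W_symm {a b : I} (h : lev a ≠ lev b) : W S b a = W S a b := by
  rw [W, dif_pos h.symm]
  exact W_eq S h (neg_ne_zero.2 one_ne_zero) _ (w_swap S h 1)

theorem W_bar {a b : I} (h : lev a ≠ lev b) : W S (bar a) (bar b) = W S a b := by
  rw [W, dif_pos (show lev (bar a) ≠ lev (bar b) by rwa [lev_bar, lev_bar])]
  exact W_eq S h (inv_ne_zero one_ne_zero) _ (w_bar S h one_ne_zero)

theorem W_conj (q : WQ S) {a b : I} (h : lev a ≠ lev b) :
    q * W S a b = W S (qperm S q a) (qperm S q b) * q := by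
  obtain ⟨g, rfl⟩ := QuotientGroup.mk_surjective q
  obtain ⟨c, hc⟩ := isMon_perm S g
  have h' : lev (perm S g a) ≠ lev (perm S g b) := lev_ne_of_ok (hc.1.ok (ok_of_lev h))
  show _ = W S (perm S g a) (perm S g b) * _
  rw [← mul_inv_eq_iff_eq_mul, W, dif_pos h, ← QuotientGroup.mk_inv, ← QuotientGroup.mk_mul,
    ← QuotientGroup.mk_mul]
  exact W_eq S h' (mul_ne_zero (mul_ne_zero (hc.1.ne_zero a) (hc.1.ne_zero b)) one_ne_zero) _
    (w_conj S hc h 1)

theorem W_sq {a b : I} (h : lev a ≠ lev b) : W S a b * W S a b = 1 := by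
  rw [W, dif_pos h, ← QuotientGroup.mk_mul, QuotientGroup.eq_one_iff, Subgroup.mem_subgroupOf,
    Subgroup.coe_mul]
  have e : w S a b 1 * w S a b 1 = (OPlusPres.h S a b (-1))⁻¹ := by
    rw [OPlusPres.h, _root_.mul_inv_rev, ← w_inv S h one_ne_zero, inv_inv]
  rw [e]
  exact inv_mem (h_mem_That S h (neg_ne_zero.2 one_ne_zero))

/-- The reflections of levels at least `k` generate a parabolic subgroup. -/
noncomputable def WL (k : ℕ) : Subgroup (WQ S) :=
  Subgroup.closure {q | ∃ a b, lev a ≠ lev b ∧ k ≤ lev a ∧ k ≤ lev b ∧ W S a b = q}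

theorem W_mem_WL {k : ℕ} {a b : I} (h : lev a ≠ lev b) (ha : k ≤ lev a) (hb : k ≤ lev b) :
    W S a b ∈ WL S k :=
  Subgroup.subset_closure ⟨a, b, h, ha, hb, rfl⟩

theorem qperm_fix {k : ℕ} {q : WQ S} (hq : q ∈ WL S k) {x : I} (hx : lev x < k) : qperm S q x = x := by
  refine Subgroup.closure_induction ?_ ?_ ?_ ?_ hq
  · rintro _ ⟨a, b, hab, ha, hb, rfl⟩
    rw [qperm_W S hab]
    exact wPerm_fix hab (by omega) (by omega)
  · simp
  · intro p q _ _ hp hq
    rw [map_mul, Equiv.Perm.mul_apply, hq, hp]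
  · intro p _ hp
    rw [map_inv, Equiv.Perm.inv_eq_iff_eq, hp]

/-- Coset representatives of the parabolic subgroup of levels above `a`. -/
noncomputable def R (a c : I) : Set (WQ S) :=
  {r | r = 1 ∨ r = W S a (bar c) * W S a c ∨ ∃ y, lev a < lev y ∧ r = W S a y}

theorem R_step {k : ℕ} {a c y : I} (ha : lev a = k) (hc : k < lev c) (hy : k < lev y) {r : WQ S}
    (hr : r ∈ R S a c) : ∃ r' ∈ R S a c, ∃ p ∈ WL S (k + 1), r * W S a y = r' * p := by
  have hay : lev a ≠ lev y := by omega
  have hac : lev a ≠ lev c := by omega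
  have hayb : lev a ≠ lev (bar y) := by rw [lev_bar]; omega
  have hacb : lev a ≠ lev (bar c) := by rw [lev_bar]; omega
  rcases hr with rfl | rfl | ⟨x, hx, rfl⟩
  · exact ⟨_, Or.inr (Or.inr ⟨y, ha ▸ hy, rfl⟩), 1, one_mem _, by simp⟩
  · by_cases h1 : lev c = lev y
    · rcases lev_eq h1 with e | e
      · subst e
        exact ⟨_, Or.inr (Or.inr ⟨bar c, by rw [lev_bar]; omega, rfl⟩), 1, one_mem _,
          by rw [mul_assoc, W_sq S hac]⟩
      · subst e
        refine ⟨_, Or.inr (Or.inr ⟨bar y, by rw [lev_bar]; omega, rfl⟩), 1, one_mem _, ?_⟩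
        have key : W S a (bar y) * W S a y = W S a y * W S a (bar y) := by
          rw [W_conj S _ hay, qperm_W S hayb, wPerm_left hayb, bar_bar, wPerm_apply hayb,
            if_pos (bar_bar y).symm, W_symm S hay]
        rw [bar_bar, ← key, mul_assoc, W_sq S hay]
    · have hcy : lev y ≠ lev c := fun e => h1 e.symm
      refine ⟨_, Or.inr (Or.inr ⟨y, ha ▸ hy, rfl⟩), W S (bar y) (bar c) * W S (bar y) c,
        mul_mem (W_mem_WL S (by rwa [lev_bar, lev_bar]) (by rw [lev_bar]; omega) (by rw [lev_bar]; omega))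
          (W_mem_WL S (by rwa [lev_bar]) (by rw [lev_bar]; omega) (by omega)), ?_⟩
      have move : ∀ z, lev z ≠ lev a → lev z ≠ lev y →
          W S a z * W S a y = W S a y * W S (bar y) z := fun z hza hzy => by
        rw [W_conj S (W S a y) (show lev (bar y) ≠ lev z by rw [lev_bar]; exact hzy.symm), qperm_W S hay,
          wPerm_left_bar hay, wPerm_fix hay hza hzy]
      rw [mul_assoc, move c hac.symm h1, ← mul_assoc, move (bar c) hacb.symm (by rwa [lev_bar]), mul_assoc]
  · have hax : lev a ≠ lev x := by omega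
    by_cases h1 : lev x = lev y
    · rcases lev_eq h1 with e | e
      · subst e; exact ⟨1, Or.inl rfl, 1, one_mem _, by rw [W_sq S hax, one_mul]⟩
      · subst e
        by_cases h2 : lev c = lev y
        · refine ⟨_, Or.inr (Or.inl rfl), 1, one_mem _, ?_⟩
          rw [mul_one]
          rcases lev_eq h2 with e | e
          · subst e; rfl
          · subst e
            rw [bar_bar, W_conj S _ hay, qperm_W S hayb, wPerm_left hayb, bar_bar, wPerm_apply hayb,
              if_pos (bar_bar y).symm, W_symm S hay]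
        · have hyc : lev (bar y) ≠ lev (bar c) := by rw [lev_bar, lev_bar]; exact Ne.symm h2
          have hyc' : lev (bar y) ≠ lev c := by rw [lev_bar]; exact Ne.symm h2
          have hd : lev y ≠ lev c := Ne.symm h2
          refine ⟨_, Or.inr (Or.inl rfl), W S y c * W S y (bar c), mul_mem (W_mem_WL S hd (by omega)
            (by omega)) (W_mem_WL S (by rwa [lev_bar]) (by omega) (by rw [lev_bar]; omega)), ?_⟩
          have hdb : lev y ≠ lev (bar c) := by rwa [lev_bar]
          set g := W S y (bar c)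
          set d := W S a (bar c) * W S a c
          have gy : qperm S g y = c := by rw [qperm_W S hdb, wPerm_left hdb, bar_bar]
          have gyb : qperm S g (bar y) = bar c := by rw [qperm_bar, gy]
          have ga : qperm S g a = a := by
            rw [qperm_W S hdb]; exact wPerm_fix hdb hay hacb
          have key : W S a (bar y) * W S a y = g⁻¹ * d * g := by
            rw [mul_assoc, eq_inv_mul_iff_mul_eq, ← mul_assoc, W_conj S g hayb, mul_assoc,
              W_conj S g hay, ga, gyb, gy, ← mul_assoc]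
          have gd : g⁻¹ = g := inv_eq_of_mul_eq_one_right (W_sq S hdb)
          rw [key, gd]
          have dy : qperm S d y = y := by
            rw [map_mul, Equiv.Perm.mul_apply, qperm_W S hac, qperm_W S hacb,
              wPerm_fix hac hay.symm hd, wPerm_fix hacb hay.symm hdb]
          have dcb : qperm S d (bar c) = c := by
            rw [map_mul, Equiv.Perm.mul_apply, qperm_W S hac, qperm_W S hacb, wPerm_left_bar hac,
              wPerm_left hacb, bar_bar]
          have dc : qperm S d c = bar c := by rw [← bar_bar (qperm S d c), ← qperm_bar, dcb]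
          have mv : g * d = d * W S y c := by
            rw [W_conj S d hd, dy, dc]
          rw [mv, mul_assoc]
    · have hxy : lev x ≠ lev y := h1
      refine ⟨_, Or.inr (Or.inr ⟨y, ha ▸ hy, rfl⟩), W S (bar y) x,
        W_mem_WL S (by rw [lev_bar]; exact hxy.symm) (by rw [lev_bar]; omega) (by omega), ?_⟩
      rw [W_conj S (W S a y) (show lev (bar y) ≠ lev x by rw [lev_bar]; exact hxy.symm), qperm_W S hay,
        wPerm_left_bar hay, wPerm_fix hay hax.symm hxy]

theorem mem_step {k : ℕ} {a c : I} (ha : lev a = k) (hc : k < lev c) {q : WQ S} (hq : q ∈ WL S k) :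
    ∃ r ∈ R S a c, ∃ p ∈ WL S (k + 1), q = r * p := by
  have key : ∀ r ∈ R S a c, ∀ u v : I, lev u ≠ lev v → k ≤ lev u → k ≤ lev v →
      ∃ r' ∈ R S a c, ∃ p ∈ WL S (k + 1), r * W S u v = r' * p := by
    intro r hr u v huv hu hv
    by_cases h1 : lev u = k
    · rcases lev_eq (h1.trans ha.symm) with e | e
      · subst e; exact R_step S ha hc (by omega) hr
      · subst e
        rw [← W_bar S huv, bar_bar]
        exact R_step S ha hc (by rw [lev_bar]; omega) hr
    by_cases h2 : lev v = k
    · rw [W_symm S huv.symm]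
      rcases lev_eq (h2.trans ha.symm) with e | e
      · subst e; exact R_step S ha hc (by omega) hr
      · subst e
        rw [← W_bar S huv.symm, bar_bar]
        exact R_step S ha hc (by rw [lev_bar]; omega) hr
    exact ⟨r, hr, _, W_mem_WL S huv (by omega) (by omega), rfl⟩
  refine Subgroup.closure_induction_right (p := fun x _ => ∃ r ∈ R S a c, ∃ p ∈ WL S (k + 1), x = r * p)
    ⟨1, Or.inl rfl, 1, one_mem _, (one_mul _).symm⟩ ?_ ?_ hq
  · rintro x _ _ ⟨u, v, huv, hu, hv, rfl⟩ ⟨r, hr, p, hp, rfl⟩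
    have hmon : ∀ z, lev (qperm S p z) ≥ k ↔ lev z ≥ k := fun z => by
      constructor <;> intro h <;> by_contra hlt
      · rw [qperm_fix S hp (by omega)] at h; omega
      · have := qperm_fix S hp (x := qperm S p z) (by omega)
        rw [(qperm S p).injective this] at hlt; omega
    have hne : lev (qperm S p u) ≠ lev (qperm S p v) := fun e => by
      rcases lev_eq e with e | e
      · exact huv (by rw [(qperm S p).injective e])
      · rw [← qperm_bar] at e; exact huv (by rw [(qperm S p).injective e, lev_bar])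
    obtain ⟨r', hr', p', hp', e⟩ := key r hr _ _ hne ((hmon u).2 hu) ((hmon v).2 hv)
    exact ⟨r', hr', p' * p, mul_mem hp' hp, by
      rw [mul_assoc r, W_conj S p huv, ← mul_assoc, e, mul_assoc]⟩
  · rintro x _ _ ⟨u, v, huv, hu, hv, rfl⟩ ⟨r, hr, p, hp, rfl⟩
    rw [inv_eq_of_mul_eq_one_right (W_sq S huv)]
    have hmon : ∀ z, lev (qperm S p z) ≥ k ↔ lev z ≥ k := fun z => by
      constructor <;> intro h <;> by_contra hlt
      · rw [qperm_fix S hp (by omega)] at h; omega
      · have := qperm_fix S hp (x := qperm S p z) (by omega)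
        rw [(qperm S p).injective this] at hlt; omega
    have hne : lev (qperm S p u) ≠ lev (qperm S p v) := fun e => by
      rcases lev_eq e with e | e
      · exact huv (by rw [(qperm S p).injective e])
      · rw [← qperm_bar] at e; exact huv (by rw [(qperm S p).injective e, lev_bar])
    obtain ⟨r', hr', p', hp', e⟩ := key r hr _ _ hne ((hmon u).2 hu) ((hmon v).2 hv)
    exact ⟨r', hr', p' * p, mul_mem hp' hp, by
      rw [mul_assoc r, W_conj S p huv, ← mul_assoc, e, mul_assoc]⟩

/-- The Weyl quotient acts faithfully. -/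
theorem qperm_inj {k : ℕ} {q : WQ S} (hq : q ∈ WL S k) (h1 : qperm S q = 1) : q = 1 := by
  obtain ⟨d, hd⟩ : ∃ d, n ≤ k + 1 + d := ⟨n, by omega⟩
  induction d generalizing k q with
  | zero =>
    have : WL S k = ⊥ := by
      rw [WL, Subgroup.closure_eq_bot_iff]
      rintro _ ⟨a, b, hab, ha, hb, rfl⟩
      have := (levF a).isLt; have := (levF b).isLt
      rw [lev_levF] at *
      exact absurd (show lev a = lev b by omega) hab
    rwa [this, Subgroup.mem_bot] at hq
  | succ d ih =>
    by_cases hk : n ≤ k + 1 + d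
    · exact ih hq h1 hk
    set a : I := Sum.inl ⟨k, by omega⟩
    set c : I := Sum.inl ⟨k + 1, by omega⟩
    have ha : lev a = k := rfl
    have hc : k < lev c := Nat.lt_succ_self k
    obtain ⟨r, hr, p, hp, rfl⟩ := mem_step S ha hc hq
    have hra : qperm S r a = a := by
      have := congrArg (fun τ : Equiv.Perm I => τ a) h1
      simp only [map_mul, Equiv.Perm.mul_apply, Equiv.Perm.one_apply] at this
      rwa [qperm_fix S hp (by omega)] at this
    rcases hr with rfl | rfl | ⟨y, hy, rfl⟩
    · rw [one_mul] at h1 ⊢; exact ih hp h1 (by omega)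
    · exfalso
      have hac : lev a ≠ lev c := by omega
      have hacb : lev a ≠ lev (bar c) := by rw [lev_bar]; omega
      rw [map_mul, Equiv.Perm.mul_apply, qperm_W S hac, qperm_W S hacb, wPerm_left hac, wPerm_apply hacb,
        if_neg, if_neg, if_neg, if_pos rfl] at hra
      · exact bar_ne a hra
      · exact fun e => hac (by rw [← bar_inj e])
      · exact fun e => hacb (by rw [e])
      · exact fun e => bar_ne (bar c) e.symm
    · exfalso
      have hay : lev a ≠ lev y := by omega
      rw [qperm_W S hay, wPerm_left hay] at hra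
      exact hay (by rw [← hra, lev_bar])

/-- The group generated by the Weyl elements. -/
noncomputable def Ngp : Subgroup Γ :=
  Subgroup.closure {x | ∃ a b t, lev a ≠ lev b ∧ t ≠ 0 ∧ w S a b t = x}

theorem w_mem_Ngp {a b : I} (h : lev a ≠ lev b) {t : F} (ht : t ≠ 0) : w S a b t ∈ Ngp S :=
  Subgroup.subset_closure ⟨a, b, t, h, ht, rfl⟩

theorem Ngp_le : Ngp S ≤ monGroup S := by
  rw [Ngp, Subgroup.closure_le]
  rintro _ ⟨a, b, t, hab, ht, rfl⟩
  exact (w_mon S hab ht).mem S

theorem That_le_Ngp : That S ≤ Ngp S := by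
  rw [That, Subgroup.closure_le]
  rintro _ ⟨a, b, t, hab, ht, rfl⟩
  exact mul_mem (w_mem_Ngp S hab ht) (w_mem_Ngp S hab (neg_ne_zero.2 one_ne_zero))

/-- An element of the group of Weyl elements with trivial permutation lies in the torus. -/
theorem Ngp_trivial {x : Γ} (hx : x ∈ Ngp S) (h1 : IsMon S x 1) : x ∈ That S := by
  have key : (QuotientGroup.mk ⟨x, Ngp_le S hx⟩ : WQ S) ∈ WL S 0 := by
    refine Subgroup.closure_induction (p := fun y hy =>
      (QuotientGroup.mk ⟨y, Ngp_le S hy⟩ : WQ S) ∈ WL S 0) ?_ (one_mem _) ?_ ?_ hx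
    · rintro _ ⟨a, b, t, hab, ht, rfl⟩
      rw [W_eq S hab ht _ rfl]
      exact W_mem_WL S hab (Nat.zero_le _) (Nat.zero_le _)
    · exact fun x y hx hy hx' hy' => mul_mem hx' hy'
    · exact fun x hx hx' => inv_mem hx'
  have := qperm_inj S key (by rw [qperm_mk]; exact perm_eq S h1)
  exact Subgroup.mem_subgroupOf.1 ((QuotientGroup.eq_one_iff _).1 this)

end Cfsg.Agent.OPlusPres
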